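import Cfsg.Agent.H17.TwoAn.Model

/-!
The ten point model of a perfect double cover of `A₉` or `A₁₀`, and the core of the centraliser of a three-cycle.
-/

set_option autoImplicit false

namespace H17.TwoAn

open Equiv Equiv.Perm

universe u

variable {Γ : Type u} [Group Γ]

/-- The model when `n = 10`. -/
def modelTen [Finite Γ] {φ : Γ →* Perm (Fin 10)} {z : Γ} (d : H60.AltCover.Data φ z) : Mdl Γ where
  ψ := φ
  z := z
  nine := False
  central := d.central
  ne_one := d.ne_one
  sq := d.sq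
  zmem := d.zmem
  ker := d.ker
  mem σ h _ := d.lift h
  sign_one g := by
    rw [← mem_alternatingGroup, ← d.range_eq]
    exact ⟨g, rfl⟩
  fix9 h := h.elim
  dt hnd _ hg := d.dt_sq hnd hg

/-- Nine points among ten. -/
def e9 : Fin 9 ≃ {p : Fin 10 // p ≠ 9} := finSuccAboveEquiv 9

/-- The model when `n = 9`. -/
def modelNine [Finite Γ] {φ : Γ →* Perm (Fin 9)} {z : Γ} (d : H60.AltCover.Data φ z) : Mdl Γ where
  ψ := (extendDomainHom e9).comp φ
  z := z
  nine := True
  central := d.central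
  ne_one := d.ne_one
  sq := d.sq
  zmem := by show (φ z).extendDomain e9 = 1; rw [d.zmem, extendDomain_one]
  ker g hg := d.ker g (extendDomainHom_injective e9 (hg.trans (map_one _).symm))
  mem σ h h9 := by
    have h9' := h9 trivial
    have hp : ∀ p, σ p ≠ 9 ↔ p ≠ 9 := fun p =>
      not_congr ⟨fun e => σ.injective (e.trans h9'.symm), fun e => e ▸ h9'⟩
    let τ : Perm (Fin 9) := e9.symm.permCongr (σ.subtypePerm hp)
    have hτ : τ.extendDomain e9 = σ := by
      refine Equiv.ext fun p => ?_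
      by_cases hp9 : p = 9
      · subst hp9
        rw [extendDomain_apply_not_subtype τ e9 (by simp), h9']
      · rw [extendDomain_apply_subtype τ e9 hp9]
        simp [τ, Equiv.permCongr_apply]
    obtain ⟨g, hg⟩ := d.lift (σ := τ) (by rw [← sign_extendDomain τ e9, hτ, h])
    exact ⟨g, show (φ g).extendDomain e9 = σ by rw [hg, hτ]⟩
  sign_one g := by
    show sign ((φ g).extendDomain e9) = 1
    rw [sign_extendDomain, ← mem_alternatingGroup, ← d.range_eq]
    exact ⟨g, rfl⟩
  fix9 _ g := extendDomain_apply_not_subtype _ e9 (by simp)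
  dt {p q r s} hnd g hg := by
    simp only [List.nodup_cons, List.mem_cons, List.not_mem_nil, or_false, not_or] at hnd
    obtain ⟨⟨hpq, hpr, hps⟩, ⟨hqr, hqs⟩, hrs, -⟩ := hnd
    replace hg : (φ g).extendDomain e9 = swap p q * swap r s := hg
    have h9 : (swap p q * swap r s) 9 = 9 := by
      rw [← hg]; exact extendDomain_apply_not_subtype _ e9 (by simp)
    have hp9 : p ≠ 9 := by
      rintro rfl
      rw [Perm.mul_apply, swap_apply_of_ne_of_ne hpr hps, swap_apply_left] at h9
      exact hpq h9.symm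
    have hq9 : q ≠ 9 := by
      rintro rfl
      rw [Perm.mul_apply, swap_apply_of_ne_of_ne hqr hqs, swap_apply_right] at h9
      exact hpq h9
    have hr9 : r ≠ 9 := by
      rintro rfl
      rw [Perm.mul_apply, swap_apply_left, swap_apply_of_ne_of_ne (Ne.symm hps) (Ne.symm hqs)] at h9
      exact hrs h9.symm
    have hs9 : s ≠ 9 := by
      rintro rfl
      rw [Perm.mul_apply, swap_apply_right, swap_apply_of_ne_of_ne (Ne.symm hpr) (Ne.symm hqr)] at h9
      exact hrs h9
    have hex : ∀ a b : Fin 9, (swap a b).extendDomain e9 = swap (e9 a : Fin 10) (e9 b) := by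
      decide +kernel
    refine d.dt_sq (p := e9.symm ⟨p, hp9⟩) (q := e9.symm ⟨q, hq9⟩) (r := e9.symm ⟨r, hr9⟩)
      (s := e9.symm ⟨s, hs9⟩) ?_ (extendDomainHom_injective e9 ?_)
    · simp [hpq, hpr, hps, hqr, hqs, hrs]
    · show (φ g).extendDomain e9 = (swap _ _ * swap _ _).extendDomain e9
      rw [hg, ← extendDomain_mul, hex, hex]
      simp

/-- Points moved by the outer alternating group in the centraliser of `pb`. -/
def Outer (nine : Prop) (p : Fin 10) : Prop := p ≠ 6 ∧ p ≠ 7 ∧ p ≠ 8 ∧ (nine → p ≠ 9)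

/-- A subgroup of odd order of `C(b)` normalised by it lies in `⟨b⟩`. -/
theorem Mdl.core_b [Finite Γ] (M : Mdl Γ) {b : Γ} (hb : M.ψ b = pb) (hb3 : b ^ 3 = 1)
    (N : Subgroup Γ) (hodd : Odd (Nat.card N)) (hcb : ∀ r ∈ N, Commute r b)
    (hnorm : ∀ c : Γ, Commute c b → ∀ r ∈ N, c * r * c⁻¹ ∈ N) : N ≤ Subgroup.zpowers b := by
  classical
  let P : Fin 10 → Prop := Outer M.nine
  let ι : alternatingGroup (Subtype P) →* P10 := ofSubtype.comp (alternatingGroup (Subtype P)).subtype
  have hcard : 5 ≤ Nat.card (Subtype P) := by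
    let f : Fin 5 → Subtype P := fun i => ⟨⟨i.val, by omega⟩, by
      refine ⟨?_, ?_, ?_, fun _ => ?_⟩ <;> simp [Fin.ext_iff] <;> omega⟩
    have hf : Function.Injective f := fun i j e => by
      have := congrArg (fun q : Subtype P => (q.1 : Fin 10).val) e
      exact Fin.ext this
    simpa using Nat.card_le_card_of_injective f hf
  haveI := alternatingGroup.isSimpleGroup hcard
  have hsix : ∀ p, ¬ P p → p = 6 ∨ p = 7 ∨ p = 8 ∨ (M.nine ∧ p = 9) := fun p hp => by
    simp only [P, Outer, not_and_or, not_not, Classical.not_imp] at hp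
    exact hp
  have hιfix : ∀ a, ∀ p, ¬ P p → ι a p = p := fun a p hp => ofSubtype_apply_of_not_mem _ hp
  have hιsign : ∀ a, sign (ι a) = 1 := fun a => by
    show sign (ofSubtype a.1) = 1
    rw [sign_ofSubtype]; exact a.2
  have hlift : ∀ a, ∃ c, M.ψ c = ι a ∧ Commute c b := by
    intro a
    obtain ⟨c, hc⟩ := M.mem (ι a) (hιsign a) (fun h9 => hιfix a 9 (fun h => h.2.2.2 h9 rfl))
    refine ⟨c, hc, M.comm ?_ hb3⟩
    rw [hc, hb]
    refine (Equiv.Perm.Disjoint.commute fun p => ?_)
    by_cases hp : P p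
    · refine Or.inr ?_
      have hk : ∀ p : Fin 10, p ≠ 6 → p ≠ 7 → p ≠ 8 → pb p = p := by decide +kernel
      exact hk p hp.1 hp.2.1 hp.2.2.1
    · exact Or.inl (hιfix a p hp)
  let Mn : Subgroup (alternatingGroup (Subtype P)) := (N.map M.ψ).comap ι
  haveI hMn : Mn.Normal := ⟨fun a ⟨r, hr, hra⟩ g => by
    obtain ⟨c, hc, hcb'⟩ := hlift g
    exact ⟨c * r * c⁻¹, hnorm c hcb' r hr, by
      rw [map_mul, map_mul, map_inv, map_mul ι, map_mul ι, map_inv ι, hc, ← hra]⟩⟩
  have hMbot : Mn = ⊥ := by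
    refine (hMn.eq_bot_or_eq_top).resolve_right fun htop => ?_
    obtain ⟨a, ha⟩ : ∃ a : alternatingGroup (Subtype P), orderOf a = 2 := by
      haveI : Fact (Nat.Prime 2) := ⟨Nat.prime_two⟩
      refine exists_prime_orderOf_dvd_card' 2 ?_
      haveI : Nontrivial (Subtype P) := Finite.one_lt_card_iff_nontrivial.mp (by omega)
      have h2 := two_mul_nat_card_alternatingGroup (α := Subtype P)
      rw [Nat.card_perm] at h2
      have h4 : 2 * 2 ∣ (Nat.card (Subtype P)).factorial :=
        dvd_trans (by decide) (Nat.factorial_dvd_factorial hcard)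
      rw [← h2] at h4
      exact Nat.dvd_of_mul_dvd_mul_left (by norm_num) h4
    obtain ⟨r, hr, hra⟩ := (htop ▸ Subgroup.mem_top a : a ∈ Mn)
    have hinj : Function.Injective ι := ofSubtype_injective.comp Subtype.val_injective
    have h2 : orderOf (M.ψ r) = 2 := by rw [hra, orderOf_injective ι hinj, ha]
    have := ((orderOf_map_dvd M.ψ r).trans (Subgroup.orderOf_dvd_natCard N hr))
    rw [h2] at this
    exact Nat.not_even_iff_odd.mpr hodd (even_iff_two_dvd.mpr this)
  intro r hr
  set σ := M.ψ r with hσ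
  have hσb : Commute σ pb := by rw [← hb]; exact (hcb r hr).map M.ψ
  have hσP : ∀ p, P (σ p) ↔ P p := by
    have e := apply_comm hσb
    have h678 : ∀ q : Fin 10, (pb q = q) ↔ (q ≠ 6 ∧ q ≠ 7 ∧ q ≠ 8) := by decide +kernel
    intro p
    have hiff : (σ p ≠ 6 ∧ σ p ≠ 7 ∧ σ p ≠ 8) ↔ (p ≠ 6 ∧ p ≠ 7 ∧ p ≠ 8) := by
      rw [← h678, ← h678, ← e, σ.injective.eq_iff]
    have h9 : M.nine → (σ p ≠ 9 ↔ p ≠ 9) := fun h =>
      not_congr ⟨fun e' => σ.injective (e'.trans (M.fix9 h r).symm), fun e' => e' ▸ M.fix9 h r⟩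
    show Outer M.nine (σ p) ↔ Outer M.nine p
    unfold Outer
    tauto
  have hcomm : ∀ a, Commute σ (ι a) := by
    intro a
    obtain ⟨c, hc, hcb'⟩ := hlift a
    have hk : r * (c * r⁻¹ * c⁻¹) ∈ N := mul_mem hr (hnorm c hcb' _ (inv_mem hr))
    set π := σ * ι a * σ⁻¹ * (ι a)⁻¹ with hπ
    have hψk : M.ψ (r * (c * r⁻¹ * c⁻¹)) = π := by
      rw [map_mul, map_mul, map_mul, map_inv, map_inv, hc, hπ, hσ]; group
    have hπfix : ∀ p, ¬ P p → π p = p := fun p hp => by
      have h1 : (ι a)⁻¹ p = p := by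
        rw [Perm.inv_eq_iff_eq]; exact (hιfix a p hp).symm
      have h2 : ¬ P (σ⁻¹ p) := fun h => hp (by simpa using (hσP (σ⁻¹ p)).mpr h)
      rw [hπ, Perm.mul_apply, Perm.mul_apply, Perm.mul_apply, h1, hιfix a _ h2, Perm.inv_def,
        Equiv.apply_symm_apply]
    have hπP : ∀ p, P (π p) ↔ P p := fun p => by
      by_cases hp : P p
      · refine iff_of_true ?_ hp
        by_contra hn
        exact hn ((π.injective (hπfix _ hn)).symm ▸ hp)
      · rw [hπfix p hp]
    have hof : ofSubtype (π.subtypePerm hπP) = π :=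
      ofSubtype_subtypePerm hπP fun p hp => by_contra fun hn => hp (hπfix p hn)
    have hsgn : π.subtypePerm hπP ∈ alternatingGroup (Subtype P) := by
      rw [mem_alternatingGroup, ← sign_ofSubtype, hof, hπ]
      simp [hιsign a]
    have hmem : (⟨_, hsgn⟩ : alternatingGroup (Subtype P)) ∈ Mn := ⟨_, hk, hψk.trans hof.symm⟩
    rw [hMbot, Subgroup.mem_bot, Subtype.ext_iff] at hmem
    have hπ1 : π = 1 := by
      rw [← hof]
      exact (congrArg ofSubtype hmem).trans (map_one _)
    rw [hπ, mul_inv_eq_one, mul_inv_eq_iff_eq_mul] at hπ1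
    exact hπ1
  -- `σ` fixes the outer points
  have hout : ∀ p, P p → σ p = p := by
    intro p hp
    by_contra hne
    set q : Subtype P := ⟨p, hp⟩
    set q' : Subtype P := ⟨σ p, (hσP p).mpr hp⟩
    have hqq : q ≠ q' := fun e => hne (congrArg Subtype.val e).symm
    obtain ⟨u, hu⟩ : ∃ u : Subtype P, u ≠ q ∧ u ≠ q' := by
      haveI := Fintype.ofFinite (Subtype P)
      obtain ⟨u, hu⟩ := Finset.exists_mem_notMem_of_card_lt_card (s := {q, q'}) (t := (Finset.univ : Finset (Subtype P)))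
        (by rw [Finset.card_univ, ← Nat.card_eq_fintype_card]; exact lt_of_le_of_lt Finset.card_le_two (by omega))
      exact ⟨u, by simpa [not_or] using hu.2⟩
    obtain ⟨w, hw⟩ : ∃ w : Subtype P, w ≠ q ∧ w ≠ q' ∧ w ≠ u := by
      haveI := Fintype.ofFinite (Subtype P)
      obtain ⟨w, hw⟩ := Finset.exists_mem_notMem_of_card_lt_card (s := {q, q', u}) (t := (Finset.univ : Finset (Subtype P)))
        (by rw [Finset.card_univ, ← Nat.card_eq_fintype_card]; exact lt_of_le_of_lt Finset.card_le_three (by omega))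
      exact ⟨w, by simpa [not_or] using hw.2⟩
    let a : alternatingGroup (Subtype P) := ⟨swap q' u * swap u w, by
      rw [mem_alternatingGroup, map_mul, sign_swap hu.2.symm, sign_swap hw.2.2.symm]; rfl⟩
    have := apply_comm (hcomm a) p
    have hap : ι a p = p := by
      show ofSubtype (swap q' u * swap u w) p = p
      rw [ofSubtype_apply_of_mem _ hp, Perm.mul_apply, swap_apply_of_ne_of_ne hu.1.symm hw.1.symm,
        swap_apply_of_ne_of_ne hqq hu.1.symm]
    rw [hap] at this
    have hne' : ι a (σ p) = u := by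
      show ofSubtype (swap q' u * swap u w) (σ p) = u
      rw [ofSubtype_apply_of_mem _ ((hσP p).mpr hp)]
      show ((swap q' u * swap u w) q' : Fin 10) = u
      rw [Perm.mul_apply, swap_apply_of_ne_of_ne hu.2.symm hw.2.1.symm, swap_apply_left]
    rw [hne'] at this
    exact hu.2 (Subtype.ext this.symm)
  have hfix : ∀ q, q ≠ 6 → q ≠ 7 → q ≠ 8 → σ q = q := fun q h6 h7 h8 => by
    by_cases hq : P q
    · exact hout q hq
    · rcases hsix q hq with h | h | h | ⟨hn, rfl⟩
      · exact absurd h h6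
      · exact absurd h h7
      · exact absurd h h8
      · exact M.fix9 hn r
  obtain ⟨k, hk⟩ : ∃ k : Fin 3, σ = pb ^ (k : ℕ) := by
    have hσ6 : σ 6 = 6 ∨ σ 6 = 7 ∨ σ 6 = 8 := by
      by_contra hcon
      simp only [not_or] at hcon
      exact hcon.1 (σ.injective (hfix (σ 6) hcon.1 hcon.2.1 hcon.2.2))
    obtain ⟨k, hk6⟩ : ∃ k : Fin 3, σ 6 = (pb ^ (k : ℕ)) 6 := by
      rcases hσ6 with h | h | h
      · exact ⟨0, by rw [h]; decide +kernel⟩
      · exact ⟨1, by rw [h]; decide +kernel⟩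
      · exact ⟨2, by rw [h]; decide +kernel⟩
    have hpk : Commute (pb ^ (k : ℕ)) pb := (Commute.refl pb).pow_left _
    refine ⟨k, Equiv.ext fun q => ?_⟩
    by_cases h6 : q = 6
    · subst h6; exact hk6
    by_cases h7 : q = 7
    · subst h7
      rw [show (7 : Fin 10) = pb 6 by decide +kernel, apply_comm hσb, apply_comm hpk, hk6]
    by_cases h8 : q = 8
    · subst h8
      rw [show (8 : Fin 10) = pb (pb 6) by decide +kernel, apply_comm hσb, apply_comm hσb,
        apply_comm hpk, apply_comm hpk, hk6]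
    rw [hfix q h6 h7 h8]
    have hk' : ∀ k : Fin 3, ∀ q : Fin 10, q ≠ 6 → q ≠ 7 → q ≠ 8 → (pb ^ (k : ℕ)) q = q := by
      decide +kernel
    exact (hk' k q h6 h7 h8).symm
  rcases M.eq_or (g := r) (h := b ^ (k : ℕ)) (by rw [map_pow, hb]; exact hk) with h | h
  · exact h ▸ pow_mem (Subgroup.mem_zpowers b) _
  · exfalso
    have hdvd : orderOf r ∣ Nat.card N := Subgroup.orderOf_dvd_natCard N hr
    have hz2 : M.z ^ 2 = 1 := by rw [pow_two, M.sq]
    have hc : Commute (b ^ (k : ℕ)) M.z := M.central _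
    have h3 : r ^ 3 = M.z := by
      rw [h, hc.mul_pow, ← pow_mul, mul_comm, pow_mul, hb3, one_pow, one_mul, pow_three', M.sq, one_mul]
    have h2 := (orderOf_pow_dvd (x := r) 3).trans hdvd
    rw [h3, orderOf_eq_prime hz2 M.ne_one] at h2
    exact Nat.not_even_iff_odd.mpr hodd (even_iff_two_dvd.mpr h2)

end H17.TwoAn
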