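import Cfsg.Agent.H17.TwoAn.Model
import Cfsg.Agent.H17.CSy.CoreTools

/-!
The centraliser of a lift of a product of two three-cycles in a double cover of an alternating group (S1645).
-/

set_option autoImplicit false

namespace H17.TwoAn

open Equiv Equiv.Perm

universe u

variable {n : ℕ}

/-- The even part of the centraliser of a permutation fixing two points has index two. -/
theorem card_even_cent {σ : Perm (Fin n)} (hn : σ.support.card + 2 ≤ n) :
    2 * Nat.card ↥(Subgroup.centralizer ({σ} : Set (Perm (Fin n))) ⊓ alternatingGroup (Fin n)) =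
      Nat.card (Subgroup.centralizer ({σ} : Set (Perm (Fin n)))) := by
  set H := Subgroup.centralizer ({σ} : Set (Perm (Fin n))) with hH
  obtain ⟨p, hp, q, hq, hpq⟩ := Finset.one_lt_card.mp (show 1 < σ.supportᶜ.card by
    rw [Finset.card_compl, Fintype.card_fin]; omega)
  rw [Finset.mem_compl, mem_support, not_not] at hp hq
  have hmem : swap p q ∈ H := by
    refine H17.CSy.mem_centralizer_one.mpr (Equiv.Perm.Disjoint.commute fun r => ?_)
    by_cases h : r = p ∨ r = q
    · rcases h with rfl | rfl
      · exact Or.inr hp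
      · exact Or.inr hq
    · simp only [not_or] at h
      exact Or.inl (swap_apply_of_ne_of_ne h.1 h.2)
  let f : H →* ℤˣ := sign.comp H.subtype
  have hker : f.ker.map H.subtype = H ⊓ alternatingGroup (Fin n) := by
    ext g
    constructor
    · rintro ⟨g, hg, rfl⟩
      exact ⟨g.2, mem_alternatingGroup.mpr hg⟩
    · rintro ⟨h1, h2⟩
      exact ⟨⟨g, h1⟩, mem_alternatingGroup.mp h2, rfl⟩
  have hrange : f.range = ⊤ := by
    refine eq_top_iff.mpr fun u _ => ?_
    rcases Int.units_eq_one_or u with rfl | rfl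
    · exact one_mem _
    · exact ⟨⟨_, hmem⟩, sign_swap hpq⟩
  rw [← hker, Subgroup.card_map_of_injective H.subtype_injective, ← Subgroup.card_mul_index f.ker,
    Subgroup.index_ker, hrange, Subgroup.card_top, mul_comm]
  congr 1
  rw [Nat.card_eq_fintype_card, Fintype.card_units_int]

variable {Γ : Type u} [Group Γ]

/-- The order of the centraliser of a lift. -/
theorem card_cent_lift (hn : 8 ≤ n) (φ : Γ →* Perm (Fin n)) (hr : φ.range = alternatingGroup (Fin n))
    {z : Γ} (hz : z ≠ 1) (hker : ∀ g, φ g = 1 ↔ g = 1 ∨ g = z) {d : Γ}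
    (hC : ∀ g, Commute (φ g) (φ d) → Commute g d) (hct : (φ d).cycleType = {3, 3}) :
    Nat.card (Subgroup.centralizer ({d} : Set Γ)) = (n - 6).factorial * 18 := by
  set C := Subgroup.centralizer ({d} : Set Γ) with hCdef
  set H := Subgroup.centralizer ({φ d} : Set (Perm (Fin n))) with hHdef
  let f : C →* Perm (Fin n) := φ.comp C.subtype
  have hrange : f.range = H ⊓ alternatingGroup (Fin n) := by
    ext σ
    constructor
    · rintro ⟨g, rfl⟩
      exact ⟨H17.CSy.mem_centralizer_one.mpr ((H17.CSy.mem_centralizer_one.mp g.2).map φ),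
        hr ▸ ⟨_, rfl⟩⟩
    · rintro ⟨h1, h2⟩
      obtain ⟨g, rfl⟩ := (hr ▸ h2 : σ ∈ φ.range)
      exact ⟨⟨g, H17.CSy.mem_centralizer_one.mpr (hC g (H17.CSy.mem_centralizer_one.mp h1))⟩, rfl⟩
  have hzC : z ∈ C := H17.CSy.mem_centralizer_one.mpr (hC z (by
    rw [(hker z).mpr (Or.inr rfl)]; exact Commute.one_left _))
  have hk : Nat.card f.ker = 2 := by
    rw [Nat.card_eq_two_iff]
    refine ⟨⟨1, one_mem _⟩, ⟨⟨z, hzC⟩, (hker z).mpr (Or.inr rfl)⟩, fun e => hz ?_, ?_⟩
    · exact congrArg (fun g : f.ker => ((g : C) : Γ)) e.symm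
    · refine Set.eq_univ_of_forall fun g => ?_
      rcases (hker _).mp g.2 with e | e
      · exact Or.inl (Subtype.ext (Subtype.ext e))
      · exact Or.inr (Subtype.ext (Subtype.ext e))
  have hsupp : (φ d).support.card = 6 := by
    rw [← sum_cycleType, hct]; rfl
  have h2 := card_even_cent (σ := φ d) (by omega)
  rw [← hHdef] at h2
  rw [← Subgroup.card_mul_index f.ker, Subgroup.index_ker, hk, hrange, h2, hHdef,
    nat_card_centralizer, hct, Fintype.card_fin]
  simp [mul_assoc]

end H17.TwoAn
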