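import Cfsg.Agent.H17.TwoAn.Extra
import Cfsg.Agent.H85.ZStarApps

/-!
Fusion of `z` and `t` in the centraliser of `x b` (S1645).
-/

set_option autoImplicit false

namespace H17.TwoAn

open Equiv Equiv.Perm

universe u

theorem fac_three {m : ℕ} (hm : ¬ 3 ∣ m) (k : ℕ) : (m * 3 ^ k).factorization 3 = k := by
  rw [Nat.factorization_mul (by rintro rfl; exact hm (dvd_zero 3)) (by positivity), Finsupp.add_apply,
    Nat.factorization_eq_zero_of_not_dvd hm, Nat.Prime.factorization_pow Nat.prime_three,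
    Finsupp.single_eq_same, zero_add]

/-- In a simple group an involution with a perfect centraliser is not isolated. -/
theorem exists_fused {G : Type u} [Group G] [Finite G] [IsSimpleGroup G] {z : G} (hz : orderOf z = 2)
    (hperf : commutator ↥(Subgroup.centralizer ({z} : Set G)) = ⊤) :
    ∃ g : G, Commute (g * z * g⁻¹) z ∧ g * z * g⁻¹ ≠ z := by
  by_contra hcon
  simp only [not_exists, not_and, not_not] at hcon
  have hiso : Cfsg.IsIsolatedInvolution z := ⟨hz, fun g hg => hcon g hg.symm⟩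
  have hzc := H85.zStar hiso
  haveI hcn := H1.pPrimeCore_normal' 2 G
  have hbot : Cfsg.pPrimeCore 2 G = ⊥ := hcn.eq_bot_or_eq_top.resolve_right fun htop => by
    have h := H1.card_pPrimeCore_coprime 2 G
    rw [htop, Subgroup.card_top, Nat.coprime_two_right] at h
    exact Nat.not_even_iff_odd.mpr h (even_iff_two_dvd.mpr (hz ▸ orderOf_dvd_natCard z))
  have hcen : z ∈ Subgroup.center G := Subgroup.mem_center_iff.mpr fun g => by
    have h := hzc g
    rw [hbot, Subgroup.mem_bot, mul_inv_eq_one, mul_inv_eq_iff_eq_mul] at h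
    exact h.symm
  have hz1 : z ≠ 1 := fun e => by rw [e, orderOf_one] at hz; omega
  have htop : Subgroup.center G = ⊤ := (Subgroup.Normal.eq_bot_or_eq_top inferInstance).resolve_left fun e => by
    rw [e, Subgroup.mem_bot] at hcen
    exact hz1 hcen
  have hcomm : commutator ↥(Subgroup.centralizer ({z} : Set G)) = ⊥ := by
    rw [commutator_eq_bot_iff_center_eq_top, eq_top_iff]
    exact fun g _ => Subgroup.mem_center_iff.mpr fun g' => Subtype.ext
      (Subgroup.mem_center_iff.mp (htop ▸ Subgroup.mem_top (g : G) : (g : G) ∈ Subgroup.center G) g')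
  rw [hcomm] at hperf
  have h := (hperf ▸ Subgroup.mem_top _ :
    (⟨z, H17.CSy.mem_centralizer_one.mpr (Commute.refl z)⟩ : Subgroup.centralizer ({z} : Set G)) ∈
      (⊥ : Subgroup _))
  exact hz1 (congrArg Subtype.val (Subgroup.mem_bot.mp h))

section

variable {Γ : Type u} [Group Γ] [Finite Γ] {M : Mdl Γ} {L : Lifts M} (K : Acts L)
include K

/-- Non-central involutions of the cover are conjugate to `t`. -/
theorem Acts.to_t {i : Γ} (hi : orderOf i = 2) (hne : i ≠ M.z) : ∃ c : Γ, c * i * c⁻¹ = K.t := by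
  have hi2 : i * i = 1 := by rw [← pow_two, ← hi, pow_orderOf_eq_one]
  obtain ⟨σ, hσ, h9, hc⟩ :=
    (M.big hi2 (fun e => by rw [e, orderOf_one] at hi; omega) hne).conj (M.sign_one i)
  obtain ⟨c, hcσ⟩ := M.mem σ hσ (fun hn => h9 (M.fix9 hn i))
  rcases M.eq_or (g := c * i * c⁻¹) (h := K.t) (by rw [map_mul, map_mul, map_inv, hcσ, hc, K.et])
    with e | e
  · exact ⟨c, e⟩
  · refine ⟨K.h⁻¹ * c, ?_⟩
    rw [show K.h⁻¹ * c * i * (K.h⁻¹ * c)⁻¹ = K.h⁻¹ * (c * i * c⁻¹) * K.h by group, e, ← K.h_t]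
    group

omit [Finite Γ] K in
theorem Lifts.orderOf_d (L : Lifts M) : orderOf (L.x * L.b) = 3 := by
  refine orderOf_eq_prime L.hd fun e => ?_
  have := L.ed
  rw [e, map_one] at this
  exact absurd this (by decide +kernel)

/-- Elements of order three of `C(t)` are conjugate there into `⟨x b⟩`. -/
theorem Acts.to_d {r : Γ} (hr : orderOf r = 3) (hc : Commute r K.t) :
    ∃ e : Γ, Commute e K.t ∧
      (e * r * e⁻¹ = L.x * L.b ∨ e * r * e⁻¹ = (L.x * L.b)⁻¹) := by
  haveI : Fact (Nat.Prime 3) := ⟨Nat.prime_three⟩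
  set T := Subgroup.centralizer ({K.t} : Set Γ) with hT
  let d' : T := ⟨L.x * L.b, H17.CSy.mem_centralizer_one.mpr K.t_d.symm⟩
  let r' : T := ⟨r, H17.CSy.mem_centralizer_one.mpr hc⟩
  have hd' : orderOf d' = 3 := by rw [Subgroup.orderOf_mk, L.orderOf_d]
  have hv : (Nat.card T).factorization 3 = 1 := by
    have h1 : 1 ≤ (Nat.card T).factorization 3 := by
      rw [← Nat.Prime.pow_dvd_iff_le_factorization Nat.prime_three Nat.card_pos.ne', pow_one, ← hd']
      exact orderOf_dvd_natCard d'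
    have h2 : ¬ 2 ≤ (Nat.card T).factorization 3 := by
      rw [← Nat.Prime.pow_dvd_iff_le_factorization Nat.prime_three Nat.card_pos.ne']
      exact nine_not_dvd K.et
    omega
  obtain ⟨e, he⟩ := H17.CSy.exists_conj_mem (Subgroup.zpowers d') Nat.prime_three (w := r') (k := 1)
    (by rw [hv, Nat.card_zpowers, hd', Nat.Prime.factorization_self Nat.prime_three])
    (by rw [Subgroup.orderOf_mk, hr, pow_one])
  refine ⟨e, H17.CSy.mem_centralizer_one.mp e.2, ?_⟩
  classical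
  rw [mem_zpowers_iff_mem_range_orderOf, hd'] at he
  obtain ⟨i, hi, he'⟩ := Finset.mem_image.mp he
  rw [Finset.mem_range] at hi
  have he'' : (e : Γ) * r * (e : Γ)⁻¹ = (L.x * L.b) ^ i := (congrArg Subtype.val he').symm
  rw [he'']
  interval_cases i
  · rw [pow_zero, conj_eq_one_iff] at he''
    rw [he'', orderOf_one] at hr
    omega
  · exact Or.inl (pow_one _)
  · exact Or.inr (inv_eq_of_mul_eq_one_right (by rw [← pow_succ', L.hd])).symm

end

/-- `z` and `t` are conjugate in the centraliser of `x b`. -/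
theorem fuse {G : Type u} [Group G] [Finite G] [IsSimpleGroup G] {z : G} (hz : orderOf z = 2)
    {M : Mdl ↥(Subgroup.centralizer ({z} : Set G))} (hMz : (M.z : G) = z)
    (hperf : commutator ↥(Subgroup.centralizer ({z} : Set G)) = ⊤) {L : Lifts M} (K : Acts L) :
    ∃ g : G, g * z * g⁻¹ = (K.t : G) ∧ g * ((L.x : G) * L.b) * g⁻¹ = (L.x : G) * L.b := by
  have hzc : ∀ r : ↥(Subgroup.centralizer ({z} : Set G)), Commute (r : G) z := fun r => H17.CSy.mem_centralizer_one.mp r.2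
  obtain ⟨g, hgc, hgne⟩ := exists_fused hz hperf
  let v : ↥(Subgroup.centralizer ({z} : Set G)) := ⟨g * z * g⁻¹, H17.CSy.mem_centralizer_one.mpr hgc⟩
  obtain ⟨c, hc⟩ := K.to_t (i := v) (by rw [Subgroup.orderOf_mk, H17.CSy.orderOf_conj, hz])
    (fun e => hgne ((congrArg Subtype.val e).trans hMz))
  have hg1 : ((c : G) * g) * z * ((c : G) * g)⁻¹ = (K.t : G) := by
    rw [show ((c : G) * g) * z * ((c : G) * g)⁻¹ = (c : G) * (g * z * g⁻¹) * (c : G)⁻¹ by group]
    exact congrArg Subtype.val hc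
  set g1 := (c : G) * g with hg1def
  have hg1' : g1⁻¹ * (K.t : G) * g1⁻¹⁻¹ = z := by rw [← hg1]; group
  let i : ↥(Subgroup.centralizer ({z} : Set G)) := ⟨g1⁻¹ * z * g1⁻¹⁻¹, H17.CSy.mem_centralizer_one.mpr (by
      have h := (H17.CSy.commute_conj_iff g1⁻¹ z (K.t : G)).mpr (hzc K.t).symm
      rwa [hg1'] at h)⟩
  let d1 : ↥(Subgroup.centralizer ({z} : Set G)) := ⟨g1⁻¹ * ((L.x * L.b : ↥(Subgroup.centralizer ({z} : Set G))) : G) * g1⁻¹⁻¹, H17.CSy.mem_centralizer_one.mpr (by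
      have h := (H17.CSy.commute_conj_iff g1⁻¹ ((L.x * L.b : ↥(Subgroup.centralizer ({z} : Set G))) : G) (K.t : G)).mpr
        (K.t_d.symm.map (Subgroup.centralizer ({z} : Set G)).subtype)
      rwa [hg1'] at h)⟩
  have hid : Commute d1 i := Subtype.ext
    ((H17.CSy.commute_conj_iff g1⁻¹ _ z).mpr (hzc (L.x * L.b))).eq
  have hine : i ≠ M.z := fun e => by
    have h1 : g1⁻¹ * z * g1⁻¹⁻¹ = z := (congrArg Subtype.val e).trans hMz
    have h2 : (K.t : G) = z := by
      rw [← hg1, mul_inv_eq_iff_eq_mul]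
      rw [inv_inv, mul_assoc, inv_mul_eq_iff_eq_mul] at h1
      exact h1.symm
    exact K.htz (Subtype.ext (h2.trans hMz.symm))
  obtain ⟨c2, hc2⟩ := K.to_t (i := i) (by rw [Subgroup.orderOf_mk, H17.CSy.orderOf_conj, hz]) hine
  obtain ⟨e, het, he⟩ := K.to_d (r := c2 * d1 * c2⁻¹)
    (by rw [H17.CSy.orderOf_conj, Subgroup.orderOf_mk, H17.CSy.orderOf_conj, Subgroup.orderOf_coe,
      L.orderOf_d])
    (hc2 ▸ (H17.CSy.commute_conj_iff c2 d1 i).mpr hid)
  set g2 := (e : G) * (c2 : G) * g1⁻¹ with hg2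
  have h2z : g2 * z * g2⁻¹ = (K.t : G) := by
    rw [show g2 * z * g2⁻¹ = (e : G) * ((c2 : G) * (g1⁻¹ * z * g1⁻¹⁻¹) * (c2 : G)⁻¹) * (e : G)⁻¹ by
      rw [hg2]; group]
    rw [show (c2 : G) * (g1⁻¹ * z * g1⁻¹⁻¹) * (c2 : G)⁻¹ = (K.t : G) from congrArg Subtype.val hc2]
    exact mul_inv_eq_iff_eq_mul.mpr (congrArg Subtype.val het.eq)
  have h2d : g2 * ((L.x : G) * L.b) * g2⁻¹ = ((e * (c2 * d1 * c2⁻¹) * e⁻¹ : ↥(Subgroup.centralizer ({z} : Set G))) : G) := by
    rw [hg2]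
    show _ = (e : G) * ((c2 : G) * (g1⁻¹ * ((L.x : G) * L.b) * g1⁻¹⁻¹) * (c2 : G)⁻¹) * (e : G)⁻¹
    group
  rcases he with he | he <;> rw [he] at h2d
  · exact ⟨g2, h2z, h2d⟩
  · refine ⟨g2 * (K.h : G), ?_, ?_⟩
    · rw [show g2 * (K.h : G) * z * (g2 * (K.h : G))⁻¹ = g2 * ((K.h : G) * z * (K.h : G)⁻¹) * g2⁻¹ by
        group, (hzc K.h).eq, mul_inv_cancel_right, h2z]
    · have hh : (K.h : G) * ((L.x : G) * L.b) * (K.h : G)⁻¹ = ((L.x : G) * L.b)⁻¹ :=
        congrArg Subtype.val K.h_d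
      rw [show g2 * (K.h : G) * ((L.x : G) * L.b) * (g2 * (K.h : G))⁻¹ =
        g2 * ((K.h : G) * ((L.x : G) * L.b) * (K.h : G)⁻¹) * g2⁻¹ by group, hh, ← conj_inv, h2d]
      simp

end H17.TwoAn
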