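import Cfsg.Agent.H17.TwoAn.Card
import Cfsg.Agent.H17.TwoAn.Fuse
import Cfsg.Agent.H33.TwoAn.Defs

/-!
Degrees nine and ten give the configuration (S1645).
-/

set_option autoImplicit false

namespace H17.TwoAn

open Equiv Equiv.Perm Subgroup

universe u

section

variable {Γ : Type u} [Group Γ] {M : Mdl Γ} (L : Lifts M)

/-- `⟨x b, x b⁻¹⟩`. -/
def Lifts.D : Subgroup Γ := closure {L.x * L.b, L.x * L.b⁻¹}

theorem Lifts.D_eq : L.D = closure {L.x, L.b} := by
  refine le_antisymm ((closure_le _).mpr ?_) ((closure_le _).mpr ?_)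
  · rintro g (rfl | rfl)
    · exact mul_mem (subset_closure (by simp)) (subset_closure (by simp))
    · exact mul_mem (subset_closure (by simp)) (inv_mem (subset_closure (by simp)))
  · have hx : L.x ∈ L.D := by
      have e : L.x = (L.x * L.b * (L.x * L.b⁻¹)) ^ 2 := by
        rw [← mul_assoc, mul_assoc L.x L.b, L.bx.eq, ← mul_assoc, mul_inv_cancel_right, ← pow_two,
          ← pow_mul, show 2 * 2 = 3 + 1 by norm_num, pow_succ, L.hx, one_mul]
      rw [e]
      exact pow_mem (mul_mem (subset_closure (by simp)) (subset_closure (by simp))) _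
    rintro g (rfl | rfl)
    · exact hx
    · have h := mul_mem (inv_mem hx) (subset_closure (by simp) : L.x * L.b ∈ L.D)
      rwa [inv_mul_cancel_left] at h

theorem Lifts.D_le : L.D ≤ L.A := by
  rw [L.D_eq, closure_le]
  rintro g (rfl | rfl)
  · exact L.x_mem
  · exact L.b_mem

theorem Lifts.D_fix {g : Γ} (hg : g ∈ L.D) : M.ψ g 3 = 3 := by
  rw [L.D_eq] at hg
  have : closure {L.x, L.b} ≤ (MulAction.stabilizer P10 (3 : Fin 10)).comap M.ψ := by
    rw [closure_le]
    rintro w (rfl | rfl) <;>
      simp only [SetLike.mem_coe, mem_comap, MulAction.mem_stabilizer_iff, Perm.smul_def, L.ex, L.eb] <;>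
      decide +kernel
  exact this hg

theorem Lifts.nine_le_D [Finite Γ] : 9 ≤ Nat.card L.D := by
  have hd : Nat.card L.D ∣ 3 ^ 3 := (card_dvd_of_le L.D_le).trans (by rw [L.card_A]; norm_num)
  obtain ⟨k, hk3, hk⟩ := (Nat.dvd_prime_pow Nat.prime_three).mp hd
  rw [hk]
  rcases (show k ≤ 1 ∨ 2 ≤ k by omega) with hk1 | hk2
  · exfalso
    have hx : orderOf L.x = 3 := orderOf_eq_prime L.hx fun e => by
      have := L.ex; rw [e, map_one] at this; exact absurd this (by decide +kernel)
    have hxD : L.x ∈ L.D := L.D_eq ▸ subset_closure (by simp)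
    have hbD : L.b ∈ L.D := L.D_eq ▸ subset_closure (by simp)
    have heq : zpowers L.x = L.D := eq_of_le_of_card_ge (zpowers_le.mpr hxD) (by
      rw [Nat.card_zpowers, hx, hk]
      exact (Nat.pow_le_pow_right (by norm_num) hk1).trans (by norm_num))
    classical
    rw [← heq, mem_zpowers_iff_mem_range_orderOf, hx] at hbD
    obtain ⟨i, hi, he⟩ := Finset.mem_image.mp hbD
    rw [Finset.mem_range] at hi
    have h := congrArg M.ψ he
    simp only [map_pow, L.ex, L.eb] at h
    interval_cases i <;> exact absurd h (by decide +kernel)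
  · exact le_trans (by norm_num) (Nat.pow_le_pow_right (by norm_num) hk2)

theorem Lifts.normal_D {c r : Γ} (hc : Commute c (L.x * L.b)) (hr : r ∈ L.D) : c * r * c⁻¹ ∈ L.D := by
  rw [L.D_eq] at hr ⊢
  have h : (closure {L.x, L.b}).map (MulAut.conj c).toMonoidHom ≤ closure {L.x, L.b} := by
    rw [MonoidHom.map_closure, closure_le]
    rintro _ ⟨g, (rfl | rfl), rfl⟩
    · show c * L.x * c⁻¹ ∈ _
      rcases L.conj_x hc with e | e <;> rw [e] <;> exact subset_closure (by simp)
    · show c * L.b * c⁻¹ ∈ _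
      rcases L.conj_b hc with e | e <;> rw [e] <;> exact subset_closure (by simp)
  exact h ⟨r, hr, rfl⟩

/-- Subgroups of order 27 of `C(x b)` contain `D`. -/
theorem Lifts.D_le_of_card [Finite Γ]
    (h3 : (Nat.card (centralizer ({L.x * L.b} : Set Γ))).factorization 3 = 3)
    (S : Subgroup Γ) (hS : Nat.card S = 27) (hc : ∀ r ∈ S, Commute r (L.x * L.b)) : L.D ≤ S := by
  obtain ⟨g, hgc, hg⟩ := L.odd_conj h3 S (by rw [hS]; decide) hc
  have hle : S.map (MulAut.conj g).toMonoidHom ≤ L.A := by
    rintro _ ⟨r, hr, rfl⟩; exact hg r hr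
  have heq := eq_of_le_of_card_ge hle (by
    rw [card_map_of_injective (MulAut.conj g).injective, hS, L.card_A])
  intro a ha
  have : MulAut.conj g a ∈ S.map (MulAut.conj g).toMonoidHom := by
    rw [heq]; exact L.D_le (L.normal_D hgc ha)
  obtain ⟨r, hr, hra⟩ := this
  rwa [← (MulAut.conj g).injective hra]

end

variable {G : Type u} [Group G] {z : G}

theorem card_inf (d : ↥(centralizer ({z} : Set G))) :
    Nat.card ↥(centralizer ({z} : Set G) ⊓ centralizer ({(d : G)} : Set G)) =
      Nat.card (centralizer ({d} : Set ↥(centralizer ({z} : Set G)))) := by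
  have h : (centralizer ({d} : Set ↥(centralizer ({z} : Set G)))).map (centralizer ({z} : Set G)).subtype =
      centralizer ({z} : Set G) ⊓ centralizer ({(d : G)} : Set G) := by
    ext g
    constructor
    · rintro ⟨g, hg, rfl⟩
      exact ⟨g.2, H17.CSy.mem_centralizer_one.mpr
        ((H17.CSy.mem_centralizer_one.mp hg).map (centralizer ({z} : Set G)).subtype)⟩
    · rintro ⟨h1, h2⟩
      exact ⟨⟨g, h1⟩, H17.CSy.mem_centralizer_one.mpr (Subtype.ext (H17.CSy.mem_centralizer_one.mp h2).eq),
        rfl⟩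
  rw [← h, card_map_of_injective (centralizer ({z} : Set G)).subtype_injective]

variable [Finite G] [IsSimpleGroup G]

/-- The configuration from a model. -/
theorem assemble (hz : orderOf z = 2) (M : Mdl ↥(centralizer ({z} : Set G))) (hMz : (M.z : G) = z)
    (hperf : commutator ↥(centralizer ({z} : Set G)) = ⊤) (L : Lifts M)
    (h3 : (Nat.card (centralizer ({L.x * L.b} : Set ↥(centralizer ({z} : Set G))))).factorization 3 = 3) :
    ∃ K : H33.TwoAn.Cfg G, K.z = z ∧ K.x = (L.x : G) ∧ K.b = (L.b : G) ∧ (M.nine → K.Nine) ∧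
      (¬ M.nine → ∃ q, K.Ten q) := by
  obtain ⟨K⟩ := nonempty_acts L
  have hzc : ∀ r : ↥(centralizer ({z} : Set G)), Commute z (r : G) := fun r =>
    (H17.CSy.mem_centralizer_one.mp r.2).symm
  have hcl : closure ({(L.b : G), (L.x : G), (L.y : G)} : Set G) =
      L.A.map (centralizer ({z} : Set G)).subtype := by
    rw [Lifts.A, MonoidHom.map_closure, Set.image_insert_eq, Set.image_insert_eq, Set.image_singleton]
    rfl
  have hA : ∀ r : ↥(centralizer ({z} : Set G)), r ∈ L.A →
      (r : G) ∈ closure ({(L.b : G), (L.x : G), (L.y : G)} : Set G) := fun r hr => by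
    rw [hcl]; exact ⟨r, hr, rfl⟩
  have hzp : ∀ (r w : ↥(centralizer ({z} : Set G))), r ∈ zpowers w → (r : G) ∈ zpowers (w : G) := by
    rintro r w ⟨i, rfl⟩
    exact ⟨i, by simp⟩
  have hlift : ∀ r : G, Commute r z → ∃ r' : ↥(centralizer ({z} : Set G)), (r' : G) = r :=
    fun r hr => ⟨⟨r, H17.CSy.mem_centralizer_one.mpr hr⟩, rfl⟩
  have hdown : ∀ {a c : ↥(centralizer ({z} : Set G))}, Commute (a : G) (c : G) → Commute a c :=
    fun h => Subtype.ext h.eq
  have hup : ∀ {a c : ↥(centralizer ({z} : Set G))}, Commute a c → Commute (a : G) (c : G) :=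
    fun h => h.map (centralizer ({z} : Set G)).subtype
  have hodd : ∀ r : ↥(centralizer ({z} : Set G)), Odd (orderOf (r : G)) → Odd (orderOf r) :=
    fun r h => by rwa [orderOf_coe] at h
  have hsub : ∀ S : Subgroup G, (∀ r ∈ S, Commute r z) →
      Nat.card (S.subgroupOf (centralizer ({z} : Set G))) = Nat.card S := fun S hS =>
    Nat.card_congr (subgroupOfEquivOfLe fun r hr => H17.CSy.mem_centralizer_one.mpr (hS r hr)).toEquiv
  let C : H33.TwoAn.Cfg G :=
    { z := z, b := L.b, x := L.x, y := L.y, t := K.t, h := K.h, s := K.s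
      hz := hz
      hb := congrArg Subtype.val L.hb
      hx := congrArg Subtype.val L.hx
      hy := congrArg Subtype.val L.hy
      hbx := hup L.bx
      hby := hup L.by'
      hxy := hup L.xy
      indep := by rw [hcl, card_map_of_injective (centralizer ({z} : Set G)).subtype_injective, L.card_A]
      hzb := hzc _, hzx := hzc _, hzy := hzc _, hzt := hzc _, hzh := hzc _, hzs := hzc _
      ht := by rw [orderOf_coe, K.ht]
      htz := fun e => K.htz (Subtype.ext (e.trans hMz.symm))
      t_b := congrArg Subtype.val K.t_b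
      t_y := congrArg Subtype.val K.t_y
      h_t := (congrArg Subtype.val K.h_t).trans (congrArg (fun w => (K.t : G) * w) hMz)
      h_b := congrArg Subtype.val K.h_b
      h_x := congrArg Subtype.val K.h_x
      h_y := congrArg Subtype.val K.h_y
      s_b := congrArg Subtype.val K.s_b
      s_x := congrArg Subtype.val K.s_x
      s_y := congrArg Subtype.val K.s_y
      iso_b := fun i hi hc hb => by
        obtain ⟨i, rfl⟩ := hlift i hc
        rw [iso_b (L := L) (i := i) (by rwa [orderOf_coe] at hi) (hdown hb), hMz]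
      iso_f := fun i hi hc hb => by
        obtain ⟨i, rfl⟩ := hlift i hc
        rw [iso_f (L := L) (i := i) (by rwa [orderOf_coe] at hi) (hdown hb), hMz]
      core_b := fun N hN hc hn r hr => by
        obtain ⟨r, rfl⟩ := hlift r (hc r hr).1
        refine hzp _ _ (M.core_b L.eb L.hb (N.subgroupOf _) ?_ ?_ ?_ hr)
        · rwa [hsub N fun r hr => (hc r hr).1]
        · exact fun r hr => hdown (hc _ hr).2
        · exact fun c hcb r hr => hn _ (hzc c).symm (hup hcb) _ hr
      cent_A := fun r ho hc hb hx hy => by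
        obtain ⟨r, rfl⟩ := hlift r hc
        exact hA _ (L.cent_dy h3 (hodd r ho) ((hdown hx).mul_right (hdown hb)) (hdown hy))
      cent_dy := fun r ho hc hd hy => by
        obtain ⟨r, rfl⟩ := hlift r hc
        exact hA _ (L.cent_dy h3 (hodd r ho) (hdown (c := L.x * L.b) hd) (hdown hy))
      cent_ey := fun r ho hc hd hy => by
        obtain ⟨r, rfl⟩ := hlift r hc
        exact hA _ (L.cent_ey h3 (hodd r ho) (hdown (c := L.x * L.b⁻¹) hd) (hdown hy))
      cent_df := fun r ho hc hd hf => by
        obtain ⟨r, rfl⟩ := hlift r hc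
        exact hA _ (L.cent_df h3 (hodd r ho) (hdown (c := L.x * L.b) hd)
          (hdown (c := L.x * L.b⁻¹ * L.y) hf))
      fix_t := fun r ho hc ht hd => by
        obtain ⟨r, rfl⟩ := hlift r hc
        exact hzp _ (L.x * L.b) (L.fix_t h3 K.et (hodd r ho) (hdown ht) (hdown (c := L.x * L.b) hd))
      odd_d := fun S hS hc => by
        have h := L.odd_props h3 (S.subgroupOf _) (by rwa [hsub S fun r hr => (hc r hr).1])
          (fun r hr => hdown (c := L.x * L.b) (hc _ hr).2)
        rw [hsub S fun r hr => (hc r hr).1] at h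
        refine ⟨h.1, fun r hr => ?_, fun r hr r' hr' => ?_⟩
        · obtain ⟨r, rfl⟩ := hlift r (hc r hr).1
          exact congrArg Subtype.val (h.2.1 r hr)
        · obtain ⟨r, rfl⟩ := hlift r (hc r hr).1
          obtain ⟨r', rfl⟩ := hlift r' (hc r' hr').1
          exact hup (h.2.2 r hr r' hr')
      pairs := fun i hi hne hc hd => by
        obtain ⟨i, rfl⟩ := hlift i hc
        obtain ⟨c, hcd, h⟩ := K.pairs (i := i) (by rwa [orderOf_coe] at hi)
          (fun e => hne (by rw [e, hMz])) (hdown (c := L.x * L.b) hd)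
        refine ⟨c, (hzc c).symm, hup hcd, h.imp (congrArg Subtype.val) fun e => ?_⟩
        exact (congrArg Subtype.val e).trans (congrArg (fun w => (K.t : G) * w) hMz)
      fuse := fuse hz hMz hperf K
      gen_x := by
        obtain ⟨v, hv, h⟩ := gen_x (L := L)
        exact ⟨v, (hzc v).symm, hup hv, (congrArg Subtype.val h).trans hMz⟩
      gen_xy := by
        obtain ⟨v, hv, h⟩ := gen_xy (L := L)
        exact ⟨v, (hzc v).symm, hup hv, (congrArg Subtype.val h).trans hMz⟩ }
  refine ⟨C, rfl, rfl, rfl, fun h9 => ⟨fun r ho hc hd => ?_⟩, fun hn => ?_⟩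
  · obtain ⟨r, rfl⟩ := hlift r hc
    exact hA _ (L.odd_le h3 h9 (hodd r ho) (hdown (c := L.x * L.b) hd))
  obtain ⟨q, hb, hx, hqt, hgen⟩ := K.exists_q hn
  have hD : closure ({C.x * C.b, C.x * C.b⁻¹} : Set G) = L.D.map (centralizer ({z} : Set G)).subtype := by
    rw [Lifts.D, MonoidHom.map_closure, Set.image_insert_eq, Set.image_singleton]
    rfl
  refine ⟨q, hzc q, hup hb, hup hx, ?_, ?_, fun c hc hcd r hr => ?_, fun S S' hS hS' hne hc hc' => ?_⟩
  · exact (congrArg Subtype.val hqt).trans (congrArg (fun w => (K.t : G) * w) hMz)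
  · exact (congrArg Subtype.val hgen).trans hMz
  · obtain ⟨c, rfl⟩ := hlift c hc
    rw [hD] at hr ⊢
    obtain ⟨r, hr, rfl⟩ := hr
    exact ⟨_, L.normal_D (hdown (c := L.x * L.b) hcd) hr, rfl⟩
  · have hle : ∀ T : Subgroup G, Nat.card T = 27 → (∀ r ∈ T, Commute r z ∧ Commute r (C.x * C.b)) →
        L.D.map (centralizer ({z} : Set G)).subtype ≤ T := by
      intro T hT hcT
      rintro _ ⟨r, hr, rfl⟩
      exact L.D_le_of_card h3 (T.subgroupOf _) (by rw [hsub T fun r hr => (hcT r hr).1, hT])
        (fun r hr => hdown (c := L.x * L.b) (hcT _ hr).2) hr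
    rw [hD]
    refine (eq_of_le_of_card_ge (le_inf (hle S hS hc) (hle S' hS' hc')) ?_).symm
    rw [card_map_of_injective (centralizer ({z} : Set G)).subtype_injective]
    refine le_trans ?_ L.nine_le_D
    have hd : Nat.card ↥(S ⊓ S') ∣ 3 ^ 3 := by
      rw [show 3 ^ 3 = 27 by norm_num, ← hS]
      exact card_dvd_of_le inf_le_left
    obtain ⟨k, hk3, hk⟩ := (Nat.dvd_prime_pow Nat.prime_three).mp hd
    rw [hk]
    have : k ≠ 3 := fun e => hne (by
      have h1 := eq_of_le_of_card_ge (inf_le_left : S ⊓ S' ≤ S) (by rw [hS, hk, e]; norm_num)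
      have h2 := eq_of_le_of_card_ge (inf_le_right : S ⊓ S' ≤ S') (by rw [hS', hk, e]; norm_num)
      exact h1.symm.trans h2)
    exact le_trans (Nat.pow_le_pow_right (by norm_num) (by omega : k ≤ 2)) (by norm_num)

theorem cfg : H33.TwoAn.CfgStmt.{u} := by
  intro G _ _ _ n hn z hz φ hrange hker hperf
  let zΓ : ↥(centralizer ({z} : Set G)) := ⟨z, H17.CSy.mem_centralizer_one.mpr (Commute.refl z)⟩
  have hne : zΓ ≠ 1 := fun e => by
    have h : z = 1 := congrArg Subtype.val e
    rw [h, orderOf_one] at hz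
    omega
  have hsq : zΓ * zΓ = 1 := Subtype.ext (show z * z = 1 by rw [← pow_two, ← hz, pow_orderOf_eq_one])
  have hker' : ∀ g, φ g = 1 ↔ g = 1 ∨ g = zΓ := fun g => by
    exact (hker g).trans (or_congr (Iff.symm Subtype.ext_iff) (Iff.symm Subtype.ext_iff))
  have d : H60.AltCover.Data φ zΓ :=
    { perfect := hperf
      range_eq := hrange
      central := fun g => Subtype.ext (H17.CSy.mem_centralizer_one.mp g.2).eq
      ne_one := hne
      sq := hsq
      ker := fun g => (hker' g).mp
      zmem := (hker' zΓ).mpr (Or.inr rfl)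
      deg := by omega }
  rcases hn with rfl | rfl
  · obtain ⟨L⟩ := nonempty_lifts (modelNine d)
    have hct : (φ (L.x * L.b)).cycleType = {3, 3} := by
      have h : (φ (L.x * L.b)).extendDomain e9 = pd := L.ed
      rw [← cycleType_extendDomain e9, h, pd_cycleType]
    have hcard := card_cent_lift (by norm_num) φ hrange hne hker' (d := L.x * L.b)
      (fun g hg => (modelNine d).comm (hg.map (extendDomainHom e9)) L.hd) hct
    obtain ⟨K, hKz, hKx, hKb, h9, -⟩ := assemble hz (modelNine d) rfl hperf L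
      (hcard ▸ fac_three (m := 4) (by decide) 3)
    refine ⟨K, hKz, Or.inl ⟨h9 trivial, ?_⟩⟩
    rw [hKx, hKb, ← Subgroup.coe_mul, card_inf, hcard]
    rfl
  · obtain ⟨L⟩ := nonempty_lifts (modelTen d)
    have hcard := card_cent_lift (by norm_num) φ hrange hne hker' (d := L.x * L.b)
      (fun g hg => (modelTen d).comm hg L.hd)
      (by rw [show φ (L.x * L.b) = pd from L.ed, pd_cycleType])
    obtain ⟨K, hKz, hKx, hKb, -, h10⟩ := assemble hz (modelTen d) rfl hperf L
      (hcard ▸ fac_three (m := 16) (by decide) 3)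
    refine ⟨K, hKz, Or.inr ⟨h10 (fun h => h), ?_⟩⟩
    rw [hKx, hKb, ← Subgroup.coe_mul, card_inf, hcard]
    rfl

end H17.TwoAn
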