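import Cfsg.Agent.H17.TwoAn.Lifts

/-!
The involution `t`, the elements acting on the configuration, and the orders of the centralisers (S1645).
-/

set_option autoImplicit false

namespace H17.TwoAn

open Equiv Equiv.Perm

universe u

variable {Γ : Type u} [Group Γ] [Finite Γ] {M : Mdl Γ} (L : Lifts M)

/-- The further elements. -/
structure Acts where
  t : Γ
  h : Γ
  s : Γ
  et : M.ψ t = pt
  t2 : t * t = 1
  ht : orderOf t = 2
  htz : t ≠ M.z
  t_b : t * L.b * t⁻¹ = L.x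
  t_y : t * L.y * t⁻¹ = L.y⁻¹
  h_t : h * t * h⁻¹ = t * M.z
  h_b : h * L.b * h⁻¹ = L.x⁻¹
  h_x : h * L.x * h⁻¹ = L.b⁻¹
  h_y : h * L.y * h⁻¹ = L.y⁻¹
  s_b : s * L.b * s⁻¹ = L.x
  s_x : s * L.x * s⁻¹ = L.y
  s_y : s * L.y * s⁻¹ = L.b

theorem inv_cube {g : Γ} (h : g ^ 3 = 1) : (g⁻¹) ^ 3 = 1 := by rw [inv_pow, h, inv_one]

/-- A lift of a product of two three-cycles commuting with `a` commutes with `a`. -/
theorem Mdl.comm_two (M : Mdl Γ) {a w : Γ} {σ₁ σ₂ : P10} (h₁ : σ₁ ^ 3 = 1) (h₂ : σ₂ ^ 3 = 1)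
    (s₁ : sign σ₁ = 1) (s₂ : sign σ₂ = 1) (n₁ : σ₁ 9 = 9 ∨ ¬ M.nine) (n₂ : σ₂ 9 = 9 ∨ ¬ M.nine)
    (hw : M.ψ w = σ₁ * σ₂) (c₁ : Commute (M.ψ a) σ₁) (c₂ : Commute (M.ψ a) σ₂) : Commute a w := by
  have key : ∀ σ : P10, σ ^ 3 = 1 → sign σ = 1 → (σ 9 = 9 ∨ ¬ M.nine) → ∃ g, g ^ 3 = 1 ∧ M.ψ g = σ := by
    intro σ hσ hs hn
    rcases hn with hn | hn
    · exact M.exists_cube hσ hs hn
    · obtain ⟨g, hg⟩ := M.mem σ hs (fun h => absurd h hn)
      rcases M.ker (g ^ 3) (by rw [map_pow, hg, hσ]) with k | k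
      · exact ⟨g, k, hg⟩
      · refine ⟨g * M.z, ?_, by rw [map_mul, hg, M.zmem, mul_one]⟩
        have hc : Commute g M.z := M.central g
        rw [hc.mul_pow, k, pow_three', M.sq, one_mul, M.sq]
  obtain ⟨g₁, e₁, f₁⟩ := key σ₁ h₁ s₁ n₁
  obtain ⟨g₂, e₂, f₂⟩ := key σ₂ h₂ s₂ n₂
  have k₁ : Commute a g₁ := M.comm (f₁ ▸ c₁) e₁
  have k₂ : Commute a g₂ := M.comm (f₂ ▸ c₂) e₂
  rcases M.eq_or (g := w) (h := g₁ * g₂) (by rw [hw, map_mul, f₁, f₂]) with k | k <;> rw [k]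
  · exact k₁.mul_right k₂
  · exact (k₁.mul_right k₂).mul_right (M.central a)

theorem nonempty_acts : Nonempty (Acts L) := by
  obtain ⟨u, hu⟩ := M.mem pu (by decide +kernel) (fun _ => by decide +kernel)
  obtain ⟨u', hu'⟩ := M.mem pu' (by decide +kernel) (fun _ => by decide +kernel)
  obtain ⟨v, hv⟩ := M.mem pv (by decide +kernel) (fun _ => by decide +kernel)
  obtain ⟨s, hs⟩ := M.mem ps (by decide +kernel) (fun _ => by decide +kernel)
  have huu : u * u = M.z := M.dt (p := 0) (q := 6) (r := 1) (s := 7) (by decide) u hu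
  have huu' : u' * u' = M.z := M.dt (p := 2) (q := 8) (r := 3) (s := 4) (by decide) u' hu'
  have hvv : v * v = M.z := M.dt (p := 0) (q := 1) (r := 6) (s := 7) (by decide) v hv
  have hvu : v * u * (v * u) = M.z :=
    M.dt (p := 0) (q := 7) (r := 1) (s := 6) (by decide) _
      (by rw [map_mul, hv, hu]; decide +kernel)
  have cu : ∀ a, (M.ψ a = pu ∨ M.ψ a = pv) → Commute a u' := by
    intro a ha
    refine M.comm_two (σ₁ := swap 2 8 * swap 8 3) (σ₂ := swap 8 3 * swap 3 4) (by decide +kernel)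
      (by decide +kernel) (by decide +kernel) (by decide +kernel) (Or.inl (by decide +kernel))
      (Or.inl (by decide +kernel)) (by rw [hu']; decide +kernel) ?_ ?_ <;>
      rcases ha with e | e <;> rw [e] <;> show _ * _ = _ * _ <;> decide +kernel
  have cuu : Commute u u' := cu u (Or.inl hu)
  have cvu : Commute v u' := cu v (Or.inr hv)
  set t := u * u' with htdef
  have et : M.ψ t = pt := by rw [map_mul, hu, hu']; rfl
  have t2 : t * t = 1 := by
    rw [htdef, show u * u' * (u * u') = u * (u' * u) * u' by group, ← cuu.eq,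
      show u * (u * u') * u' = (u * u) * (u' * u') by group, huu, huu', M.sq]
  have vt : v * t * v⁻¹ = t * M.z := by
    rw [htdef, show v * (u * u') * v⁻¹ = (v * u * v⁻¹) * (v * u' * v⁻¹) by group, M.anti hvv huu hvu,
      cvu.eq, mul_inv_cancel_right, mul_assoc u, ← M.central u', ← mul_assoc]
  have tne : t ≠ 1 := fun e => by
    rw [e, map_one] at et; exact absurd et (by decide +kernel)
  refine ⟨{ t := t, h := t * v, s := s, et := et, t2 := t2, ht := orderOf_eq_prime (by rw [pow_two, t2]) tne,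
            htz := fun e => ?_, t_b := ?_, t_y := ?_, h_t := ?_, h_b := ?_, h_x := ?_, h_y := ?_,
            s_b := ?_, s_x := ?_, s_y := ?_ }⟩
  · rw [e, M.zmem] at et; exact absurd et (by decide +kernel)
  · exact M.conj_eq (by rw [et, L.eb, L.ex]; decide +kernel) L.hb L.hx
  · exact M.conj_eq (by rw [et, L.ey, map_inv, L.ey]; decide +kernel) L.hy (inv_cube L.hy)
  · rw [show t * v * t * (t * v)⁻¹ = t * (v * t * v⁻¹) * t⁻¹ by group, vt,
      show t * (t * M.z) * t⁻¹ = t * t * (M.z * t⁻¹) by group, t2, one_mul, ← M.central t⁻¹,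
      inv_eq_of_mul_eq_one_right t2]
  · exact M.conj_eq (by rw [map_mul, et, hv, L.eb, map_inv, L.ex]; decide +kernel) L.hb (inv_cube L.hx)
  · exact M.conj_eq (by rw [map_mul, et, hv, L.ex, map_inv, L.eb]; decide +kernel) L.hx (inv_cube L.hb)
  · exact M.conj_eq (by rw [map_mul, et, hv, L.ey, map_inv, L.ey]; decide +kernel) L.hy (inv_cube L.hy)
  · exact M.conj_eq (by rw [hs, L.eb, L.ex]; decide +kernel) L.hb L.hx
  · exact M.conj_eq (by rw [hs, L.ex, L.ey]; decide +kernel) L.hx L.hy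
  · exact M.conj_eq (by rw [hs, L.ey, L.eb]; decide +kernel) L.hy L.hb

variable {L} (K : Acts L)
include K

theorem Acts.exists_q (hn : ¬ M.nine) : ∃ q : Γ, Commute L.b q ∧ Commute L.x q ∧ q * K.t * q⁻¹ = K.t * M.z ∧
    (L.y⁻¹ * (q * L.y * q⁻¹)) ^ 2 = M.z := by
  obtain ⟨q, hq⟩ := M.mem pq (by decide +kernel) (fun h => absurd h hn)
  have hqq : q * q = M.z := M.dt (p := 3) (q := 4) (r := 5) (s := 9) (by decide) q hq
  obtain ⟨u, hu⟩ := M.mem pu (by decide +kernel) (fun h => absurd h hn)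
  obtain ⟨u', hu'⟩ := M.mem pu' (by decide +kernel) (fun h => absurd h hn)
  have huu' : u' * u' = M.z := M.dt (p := 2) (q := 8) (r := 3) (s := 4) (by decide) u' hu'
  have hqu : q * u' * (q * u') = M.z :=
    M.dt (p := 2) (q := 8) (r := 5) (s := 9) (by decide) _ (by rw [map_mul, hq, hu']; decide +kernel)
  have cqu : Commute u q :=
    M.comm_two (σ₁ := swap 3 4 * swap 4 5) (σ₂ := swap 4 5 * swap 5 9) (by decide +kernel)
      (by decide +kernel) (by decide +kernel) (by decide +kernel) (Or.inl (by decide +kernel))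
      (Or.inr hn) (by rw [hq]; decide +kernel) (by rw [hu]; show _ * _ = _ * _; decide +kernel)
      (by rw [hu]; show _ * _ = _ * _; decide +kernel)
  refine ⟨q, (M.comm ?_ L.hb).symm, (M.comm ?_ L.hx).symm, ?_, ?_⟩
  · rw [hq, L.eb]; show _ * _ = _ * _; decide +kernel
  · rw [hq, L.ex]; show _ * _ = _ * _; decide +kernel
  · rcases M.eq_or (g := K.t) (h := u * u') (by rw [K.et, map_mul, hu, hu']; rfl) with e | e <;> rw [e]
    · rw [show q * (u * u') * q⁻¹ = (q * u * q⁻¹) * (q * u' * q⁻¹) by group, M.anti hqq huu' hqu,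
        ← cqu.eq, mul_inv_cancel_right, ← mul_assoc]
    · rw [show q * (u * u' * M.z) * q⁻¹ = (q * u * q⁻¹) * (q * u' * q⁻¹) * (q * M.z * q⁻¹) by group,
        M.anti hqq huu' hqu, ← cqu.eq, mul_inv_cancel_right, M.central q,
        mul_inv_cancel_right, ← mul_assoc]
  · rw [pow_two]
    exact M.dt (p := 4) (q := 5) (r := 3) (s := 9) (by decide) _
      (by rw [map_mul, map_mul, map_mul, map_inv, map_inv, hq, L.ey]; decide +kernel)

omit K in
theorem gen_x : ∃ v : Γ, Commute v L.b ∧ (L.x⁻¹ * (v * L.x * v⁻¹)) ^ 2 = M.z := by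
  obtain ⟨v, hv⟩ := M.mem pg1 (by decide +kernel) (fun _ => by decide +kernel)
  refine ⟨v, M.comm (by rw [hv, L.eb]; show _ * _ = _ * _; decide +kernel) L.hb, ?_⟩
  rw [pow_two]
  exact M.dt (p := 0) (q := 3) (r := 1) (s := 2) (by decide) _
    (by rw [map_mul, map_mul, map_mul, map_inv, map_inv, hv, L.ex]; decide +kernel)

omit K in
theorem gen_xy : ∃ v : Γ, Commute v L.b ∧
    ((L.x * L.y)⁻¹ * (v * (L.x * L.y) * v⁻¹)) ^ 2 = M.z := by
  obtain ⟨v, hv⟩ := M.mem pg2 (by decide +kernel) (fun _ => by decide +kernel)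
  refine ⟨v, M.comm (by rw [hv, L.eb]; show _ * _ = _ * _; decide +kernel) L.hb, ?_⟩
  rw [pow_two]
  exact M.dt (p := 0) (q := 5) (r := 2) (s := 4) (by decide) _
    (by simp only [map_mul, map_inv, hv, L.ex, L.ey]; decide +kernel)

omit K in
theorem iso_b {i : Γ} (hi : orderOf i = 2) (h : Commute i L.b) : i = M.z := by
  by_contra hne
  have hi2 : i * i = 1 := by rw [← pow_two, ← hi, pow_orderOf_eq_one]
  exact (M.big hi2 (fun e => by rw [e, orderOf_one] at hi; omega) hne).iso_b (L.eb ▸ h.map M.ψ)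

omit K in
theorem iso_f {i : Γ} (hi : orderOf i = 2) (h : Commute i (L.x * L.b⁻¹ * L.y)) : i = M.z := by
  by_contra hne
  have hi2 : i * i = 1 := by rw [← pow_two, ← hi, pow_orderOf_eq_one]
  refine (M.big hi2 (fun e => by rw [e, orderOf_one] at hi; omega) hne).iso_f ?_
  have := h.map M.ψ
  rwa [map_mul, map_mul, map_inv, L.ex, L.eb, L.ey] at this

/-- One class of non-central involutions in `C(x b)`, up to `z`. -/
theorem Acts.pairs {i : Γ} (hi : orderOf i = 2) (hne : i ≠ M.z) (h : Commute i (L.x * L.b)) :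
    ∃ c : Γ, Commute c (L.x * L.b) ∧ (c * i * c⁻¹ = K.t ∨ c * i * c⁻¹ = K.t * M.z) := by
  have hi2 : i * i = 1 := by rw [← pow_two, ← hi, pow_orderOf_eq_one]
  have hbig := M.big hi2 (fun e => by rw [e, orderOf_one] at hi; omega) hne
  obtain ⟨a, k₁, k₂, hk, hσ⟩ := hbig.shape (L.ed ▸ h.map M.ψ)
  obtain ⟨k, l, e, he, hc⟩ := conj_shape a k₁ k₂ hk
  set P : P10 := py ^ (k : ℕ) * pq ^ (e : ℕ) * py ^ (l : ℕ) * (px ^ (a : ℕ))⁻¹ with hP
  have hall : ∀ (k l a : Fin 3) (e : Fin 2),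
      sign (py ^ (k : ℕ) * pq ^ (e : ℕ) * py ^ (l : ℕ) * (px ^ (a : ℕ))⁻¹) = 1 ∧
      (e.val = 1 ∨ (py ^ (k : ℕ) * pq ^ (e : ℕ) * py ^ (l : ℕ) * (px ^ (a : ℕ))⁻¹) 9 = 9) ∧
      (py ^ (k : ℕ) * pq ^ (e : ℕ) * py ^ (l : ℕ) * (px ^ (a : ℕ))⁻¹) * pd =
        pd * (py ^ (k : ℕ) * pq ^ (e : ℕ) * py ^ (l : ℕ) * (px ^ (a : ℕ))⁻¹) := by decide +kernel
  obtain ⟨hs, h9, hcd⟩ := hall k l a e
  rw [← hP] at hs h9 hcd
  obtain ⟨c, hcP⟩ := M.mem P hs (fun hnine => by
    refine h9.resolve_left fun he1 => ?_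
    have h99 := M.fix9 hnine i
    rw [hσ] at h99
    have key : ∀ (a : Fin 3) (k₁ k₂ : Fin 4), k₁ ≠ k₂ → (k₁.val = 3 ∨ k₂.val = 3) →
        (tau a * swap (fr k₁) (fr k₂)) 9 ≠ 9 := by decide +kernel
    exact key a k₁ k₂ hk (he.mpr he1) h99)
  refine ⟨c, M.comm (by rw [hcP, L.ed]; exact hcd) L.hd, ?_⟩
  refine M.eq_or ?_
  rw [map_mul, map_mul, map_inv, hcP, hσ, K.et]
  exact hc

theorem Acts.h_d : K.h * (L.x * L.b) * K.h⁻¹ = (L.x * L.b)⁻¹ := by
  rw [show K.h * (L.x * L.b) * K.h⁻¹ = (K.h * L.x * K.h⁻¹) * (K.h * L.b * K.h⁻¹) by group, K.h_x,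
    K.h_b, mul_inv_rev]

theorem Acts.t_d : Commute K.t (L.x * L.b) := by
  refine M.comm ?_ L.hd
  rw [K.et, L.ed]
  show _ * _ = _ * _
  decide +kernel

omit K in
/-- The centraliser of a lift of `pt` has order prime to nine. -/
theorem nine_not_dvd {t : Γ} (ht : M.ψ t = pt) :
    ¬ 9 ∣ Nat.card (Subgroup.centralizer ({t} : Set Γ)) := by
  intro h9
  set C := Subgroup.centralizer ({t} : Set Γ)
  have h1 : Nat.card (M.ψ.comp C.subtype).ker * Nat.card (M.ψ.comp C.subtype).range = Nat.card C := by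
    rw [← Subgroup.index_ker, Subgroup.card_mul_index]
  have hker : Nat.card (M.ψ.comp C.subtype).ker ≤ 2 := by
    classical
    let f : (M.ψ.comp C.subtype).ker → Fin 2 := fun g => if ((g.1 : C) : Γ) = 1 then 0 else 1
    have hf : Function.Injective f := by
      intro g g' e
      apply Subtype.ext; apply Subtype.ext
      rcases M.ker _ g.2 with a | a <;> rcases M.ker _ g'.2 with a' | a' <;>
        simp only [f, MonoidHom.coe_comp, Subgroup.coe_subtype, Function.comp_apply] at a a' e ⊢ <;>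
        simp_all [M.ne_one]
    simpa using Nat.card_le_card_of_injective f hf
  have hle : (M.ψ.comp C.subtype).range ≤ Subgroup.centralizer ({pt} : Set P10) := by
    rintro _ ⟨g, rfl⟩
    rw [H17.CSy.mem_centralizer_one, ← ht]
    exact (H17.CSy.mem_centralizer_one.mp g.2).map M.ψ
  have hpos : 0 < Nat.card (M.ψ.comp C.subtype).ker := Nat.card_pos
  apply card_cent_pt
  refine dvd_trans ?_ (Subgroup.card_dvd_of_le hle)
  refine (?_ : Nat.Coprime 9 (Nat.card (M.ψ.comp C.subtype).ker)).dvd_of_dvd_mul_left (h1.symm ▸ h9)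
  rcases (show Nat.card (M.ψ.comp C.subtype).ker = 1 ∨ Nat.card (M.ψ.comp C.subtype).ker = 2 by omega)
    with e | e <;> rw [e] <;> decide

end H17.TwoAn
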