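import Cfsg.Agent.H17.TwoAn.Build
import Cfsg.Agent.H17.CSy.CoreTools

/-!
Centraliser facts in the double cover (S1645).
-/

set_option autoImplicit false

namespace H17.TwoAn

open Equiv Equiv.Perm

universe u

variable {Γ : Type u} [Group Γ]

/-- Lifts of order three of `px`, `py`, `pb`. -/
structure Lifts (M : Mdl Γ) where
  x : Γ
  y : Γ
  b : Γ
  hx : x ^ 3 = 1
  hy : y ^ 3 = 1
  hb : b ^ 3 = 1
  ex : M.ψ x = px
  ey : M.ψ y = py
  eb : M.ψ b = pb

theorem nonempty_lifts (M : Mdl Γ) : Nonempty (Lifts M) := by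
  obtain ⟨x, hx, ex⟩ := M.exists_cube (σ := px) (by decide +kernel) (by decide +kernel) (by decide +kernel)
  obtain ⟨y, hy, ey⟩ := M.exists_cube (σ := py) (by decide +kernel) (by decide +kernel) (by decide +kernel)
  obtain ⟨b, hb, eb⟩ := M.exists_cube (σ := pb) (by decide +kernel) (by decide +kernel) (by decide +kernel)
  exact ⟨⟨x, y, b, hx, hy, hb, ex, ey, eb⟩⟩

variable {M : Mdl Γ} (L : Lifts M)
include L

theorem Lifts.bx : Commute L.b L.x :=
  M.comm (by rw [L.eb, L.ex]; show pb * px = px * pb; decide +kernel) L.hx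

theorem Lifts.by' : Commute L.b L.y :=
  M.comm (by rw [L.eb, L.ey]; show pb * py = py * pb; decide +kernel) L.hy

theorem Lifts.xy : Commute L.x L.y :=
  M.comm (by rw [L.ex, L.ey]; show px * py = py * px; decide +kernel) L.hy

theorem Lifts.hd : (L.x * L.b) ^ 3 = 1 := by rw [L.bx.symm.mul_pow, L.hx, L.hb, one_mul]

theorem Lifts.ed : M.ψ (L.x * L.b) = pd := by rw [map_mul, L.ex, L.eb]; rfl

/-- `⟨b, x, y⟩`. -/
def Lifts.A : Subgroup Γ := Subgroup.closure {L.b, L.x, L.y}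

theorem Lifts.b_mem : L.b ∈ L.A := Subgroup.subset_closure (by simp)
theorem Lifts.x_mem : L.x ∈ L.A := Subgroup.subset_closure (by simp)
theorem Lifts.y_mem : L.y ∈ L.A := Subgroup.subset_closure (by simp)
theorem Lifts.d_mem : L.x * L.b ∈ L.A := mul_mem L.x_mem L.b_mem

theorem Lifts.A_le : L.A ≤ Subgroup.centralizer ({L.x * L.b} : Set Γ) := by
  rw [Lifts.A, Subgroup.closure_le]
  rintro g (rfl | rfl | rfl) <;> refine H17.CSy.mem_centralizer_one.mpr ?_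
  · exact L.bx.mul_right (Commute.refl _)
  · exact (Commute.refl _).mul_right L.bx.symm
  · exact L.xy.symm.mul_right L.by'.symm

theorem Lifts.word {g : Γ} (hg : g ∈ L.A) :
    ∃ i j k : Fin 3, g = L.b ^ (i : ℕ) * L.x ^ (j : ℕ) * L.y ^ (k : ℕ) := by
  have hp : ∀ (w : Γ), w ^ 3 = 1 → ∀ i : ℕ, w ^ (i % 3) = w ^ i := fun w hw i => by
    conv_rhs => rw [← Nat.mod_add_div i 3, pow_add, pow_mul, hw, one_pow, mul_one]
  suffices h : ∃ i j k : ℕ, g = L.b ^ i * L.x ^ j * L.y ^ k by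
    obtain ⟨i, j, k, rfl⟩ := h
    refine ⟨⟨i % 3, Nat.mod_lt _ (by norm_num)⟩, ⟨j % 3, Nat.mod_lt _ (by norm_num)⟩,
      ⟨k % 3, Nat.mod_lt _ (by norm_num)⟩, ?_⟩
    simp only [hp _ L.hb, hp _ L.hx, hp _ L.hy]
  induction hg using Subgroup.closure_induction with
  | mem w hw =>
    rcases hw with rfl | rfl | rfl
    · exact ⟨1, 0, 0, by simp⟩
    · exact ⟨0, 1, 0, by simp⟩
    · exact ⟨0, 0, 1, by simp⟩
  | one => exact ⟨0, 0, 0, by simp⟩
  | mul g g' _ _ hg hg' =>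
    obtain ⟨i, j, k, rfl⟩ := hg
    obtain ⟨i', j', k', rfl⟩ := hg'
    refine ⟨i + i', j + j', k + k', ?_⟩
    rw [pow_add, pow_add, pow_add]
    have c1 : Commute (L.y ^ k) (L.b ^ i' * L.x ^ j') :=
      (L.by'.symm.pow_pow k i').mul_right (L.xy.symm.pow_pow k j')
    calc L.b ^ i * L.x ^ j * L.y ^ k * (L.b ^ i' * L.x ^ j' * L.y ^ k')
        = L.b ^ i * L.x ^ j * (L.y ^ k * (L.b ^ i' * L.x ^ j')) * L.y ^ k' := by group
      _ = L.b ^ i * L.x ^ j * ((L.b ^ i' * L.x ^ j') * L.y ^ k) * L.y ^ k' := by rw [c1.eq]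
      _ = L.b ^ i * (L.x ^ j * L.b ^ i') * L.x ^ j' * L.y ^ k * L.y ^ k' := by group
      _ = L.b ^ i * (L.b ^ i' * L.x ^ j) * L.x ^ j' * L.y ^ k * L.y ^ k' := by
          rw [(L.bx.symm.pow_pow j i').eq]
      _ = _ := by group
  | inv g _ hg =>
    obtain ⟨i, j, k, rfl⟩ := hg
    refine ⟨2 * i, 2 * j, 2 * k, inv_eq_of_mul_eq_one_right ?_⟩
    have c1 : Commute (L.y ^ k) (L.b ^ (2 * i) * L.x ^ (2 * j)) :=
      (L.by'.symm.pow_pow _ _).mul_right (L.xy.symm.pow_pow _ _)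
    calc L.b ^ i * L.x ^ j * L.y ^ k * (L.b ^ (2 * i) * L.x ^ (2 * j) * L.y ^ (2 * k))
        = L.b ^ i * L.x ^ j * (L.y ^ k * (L.b ^ (2 * i) * L.x ^ (2 * j))) * L.y ^ (2 * k) := by group
      _ = L.b ^ i * (L.x ^ j * L.b ^ (2 * i)) * L.x ^ (2 * j) * L.y ^ k * L.y ^ (2 * k) := by
          rw [c1.eq]; group
      _ = L.b ^ (3 * i) * L.x ^ (3 * j) * L.y ^ (3 * k) := by
          rw [(L.bx.symm.pow_pow j (2 * i)).eq]; group
      _ = 1 := by rw [pow_mul, pow_mul, pow_mul, L.hb, L.hx, L.hy]; simp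

theorem Lifts.cube {g : Γ} (hg : g ∈ L.A) : g ^ 3 = 1 := by
  obtain ⟨i, j, k, rfl⟩ := L.word hg
  have hp : ∀ w : Γ, w ^ 3 = 1 → ∀ n : ℕ, (w ^ n) ^ 3 = 1 := fun w hw n => by
    rw [← pow_mul, mul_comm, pow_mul, hw, one_pow]
  rw [((L.by'.pow_pow _ _).mul_left (L.xy.pow_pow _ _)).mul_pow, (L.bx.pow_pow _ _).mul_pow,
    hp _ L.hb, hp _ L.hx, hp _ L.hy, one_mul, one_mul]

theorem Lifts.comm_A {g g' : Γ} (hg : g ∈ L.A) (hg' : g' ∈ L.A) : Commute g g' := by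
  have key : ∀ w, Commute w L.b → Commute w L.x → Commute w L.y → ∀ g ∈ L.A, Commute w g := by
    intro w h1 h2 h3 g hg
    obtain ⟨i, j, k, rfl⟩ := L.word hg
    exact ((h1.pow_right _).mul_right (h2.pow_right _)).mul_right (h3.pow_right _)
  refine key g ?_ ?_ ?_ g' hg'
  · exact (key L.b (Commute.refl _) L.bx L.by' g hg).symm
  · exact (key L.x L.bx.symm (Commute.refl _) L.xy g hg).symm
  · exact (key L.y L.by'.symm L.xy.symm (Commute.refl _) g hg).symm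

theorem Lifts.card_A : Nat.card L.A = 27 := by
  let f : Fin 3 × Fin 3 × Fin 3 → L.A := fun w =>
    ⟨L.b ^ (w.1 : ℕ) * L.x ^ (w.2.1 : ℕ) * L.y ^ (w.2.2 : ℕ),
      mul_mem (mul_mem (pow_mem L.b_mem _) (pow_mem L.x_mem _)) (pow_mem L.y_mem _)⟩
  have hinj : Function.Injective f := by
    intro w w' e
    have := congrArg (fun a : L.A => M.ψ a) e
    simp only [f, map_mul, map_pow, L.ex, L.ey, L.eb] at this
    obtain ⟨h1, h2, h3⟩ := word_inj _ _ _ _ _ _ this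
    exact Prod.ext h1 (Prod.ext h2 h3)
  have hsur : Function.Surjective f := fun a => by
    obtain ⟨i, j, k, e⟩ := L.word a.2
    exact ⟨(i, j, k), Subtype.ext e.symm⟩
  rw [← Nat.card_congr (Equiv.ofBijective f ⟨hinj, hsur⟩)]
  simp

theorem Lifts.pow_three_of_odd {r : Γ} (ho : Odd (orderOf r)) (h : Commute r (L.x * L.b)) : r ^ 3 = 1 := by
  have hψ : Commute (M.ψ r) pd := L.ed ▸ h.map M.ψ
  have h3 := cube_one_of_odd hψ (ho.of_dvd_nat (orderOf_map_dvd M.ψ r))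
  rcases M.ker (r ^ 3) (by rw [map_pow, h3]) with e | e
  · exact e
  · exfalso
    have h2 := orderOf_pow_dvd (x := r) 3
    rw [e, orderOf_eq_prime (by rw [pow_two, M.sq]) M.ne_one] at h2
    exact Nat.not_even_iff_odd.mpr ho (even_iff_two_dvd.mpr h2)

theorem Lifts.conj_x {r : Γ} (h : Commute r (L.x * L.b)) :
    r * L.x * r⁻¹ = L.x ∨ r * L.x * r⁻¹ = L.b := by
  have hψ : Commute (M.ψ r) pd := L.ed ▸ h.map M.ψ
  rcases conj_px hψ with e | e
  · exact Or.inl (M.conj_eq (by rw [L.ex, e]) L.hx L.hx)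
  · exact Or.inr (M.conj_eq (by rw [L.ex, L.eb, e]) L.hx L.hb)

theorem Lifts.conj_b {r : Γ} (h : Commute r (L.x * L.b)) :
    r * L.b * r⁻¹ = L.x ∨ r * L.b * r⁻¹ = L.b := by
  have hψ : Commute (M.ψ r) pd := L.ed ▸ h.map M.ψ
  rcases conj_pb hψ with e | e
  · exact Or.inl (M.conj_eq (by rw [L.ex, L.eb, e]) L.hb L.hx)
  · exact Or.inr (M.conj_eq (by rw [L.eb, e]) L.hb L.hb)

theorem Lifts.comm_x {r : Γ} (ho : Odd (orderOf r)) (h : Commute r (L.x * L.b)) :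
    Commute r L.x ∧ Commute r L.b := by
  have hx2 : Commute (r ^ 2) L.x := by
    have key : r ^ 2 * L.x * (r ^ 2)⁻¹ = L.x := by
      rw [show r ^ 2 * L.x * (r ^ 2)⁻¹ = r * (r * L.x * r⁻¹) * r⁻¹ by rw [pow_two]; group]
      rcases L.conj_x h with e | e <;> rw [e]
      · exact e
      · rcases L.conj_b h with e' | e'
        · exact e'
        · exfalso
          have : L.x = L.b := mul_left_cancel (mul_right_cancel (e.trans e'.symm))
          have h2 := congrArg M.ψ this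
          rw [L.ex, L.eb] at h2
          exact absurd h2 (by decide +kernel)
    exact mul_inv_eq_iff_eq_mul.mp key
  have hrx : Commute r L.x := by
    have := H17.CSy.mem_of_pow_mem_coprime (Subgroup.centralizer ({L.x} : Set Γ))
      (Nat.coprime_two_left.mpr ho) (H17.CSy.mem_centralizer_one.mpr hx2)
      (by rw [pow_orderOf_eq_one]; exact one_mem _)
    exact H17.CSy.mem_centralizer_one.mp this
  refine ⟨hrx, ?_⟩
  have := hrx.inv_right.mul_right h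
  rwa [inv_mul_cancel_left] at this

variable [Finite Γ] (h3 : (Nat.card (Subgroup.centralizer ({L.x * L.b} : Set Γ))).factorization 3 = 3)
include h3

/-- Subgroups of odd order of `C(x b)` are conjugate into `A`. -/
theorem Lifts.odd_conj (S : Subgroup Γ) (hodd : Odd (Nat.card S))
    (hS : ∀ r ∈ S, Commute r (L.x * L.b)) :
    ∃ g : Γ, Commute g (L.x * L.b) ∧ ∀ r ∈ S, g * r * g⁻¹ ∈ L.A := by
  haveI : Fact (Nat.Prime 3) := ⟨Nat.prime_three⟩
  set C := Subgroup.centralizer ({L.x * L.b} : Set Γ)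
  have hSC : S ≤ C := fun r hr => H17.CSy.mem_centralizer_one.mpr (hS r hr)
  have hp : IsPGroup 3 (S.subgroupOf C) := fun g => by
    refine ⟨1, Subtype.ext (Subtype.ext ?_)⟩
    have hm : ((g : C) : Γ) ∈ S := g.2
    show ((g : C) : Γ) ^ (3 ^ 1) = 1
    rw [pow_one]
    exact L.pow_three_of_odd (hodd.of_dvd_nat (Subgroup.orderOf_dvd_natCard S hm)) (hS _ hm)
  obtain ⟨R, hR⟩ := hp.exists_le_sylow
  let T : Sylow 3 C := Sylow.ofCard (L.A.subgroupOf C)
    (by rw [Nat.card_congr (Subgroup.subgroupOfEquivOfLe L.A_le).toEquiv, L.card_A, h3]; rfl)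
  obtain ⟨g, hg⟩ := MulAction.exists_smul_eq C R T
  refine ⟨g, H17.CSy.mem_centralizer_one.mp g.2, fun r hr => ?_⟩
  have hm : MulAut.conj g ⟨r, hSC hr⟩ ∈ ((g • R : Sylow 3 C) : Subgroup C) :=
    ⟨⟨r, hSC hr⟩, hR hr, rfl⟩
  rw [hg] at hm
  exact hm

theorem Lifts.odd_dvd (S : Subgroup Γ) (hodd : Odd (Nat.card S))
    (hS : ∀ r ∈ S, Commute r (L.x * L.b)) : Nat.card S ∣ 27 := by
  obtain ⟨g, -, hg⟩ := L.odd_conj h3 S hodd hS
  have hle : S.map (MulAut.conj g).toMonoidHom ≤ L.A := by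
    rintro _ ⟨r, hr, rfl⟩; exact hg r hr
  have := Subgroup.card_dvd_of_le hle
  rwa [Subgroup.card_map_of_injective (MulAut.conj g).injective, L.card_A] at this

theorem Lifts.odd_props (S : Subgroup Γ) (hodd : Odd (Nat.card S))
    (hS : ∀ r ∈ S, Commute r (L.x * L.b)) :
    Nat.card S ∣ 27 ∧ (∀ r ∈ S, r ^ 3 = 1) ∧ ∀ r ∈ S, ∀ r' ∈ S, Commute r r' := by
  obtain ⟨g, -, hg⟩ := L.odd_conj h3 S hodd hS
  refine ⟨L.odd_dvd h3 S hodd hS, fun r hr => ?_, fun r hr r' hr' => ?_⟩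
  · have := L.cube (hg r hr)
    rwa [conj_pow, conj_eq_one_iff] at this
  · exact (H17.CSy.commute_conj_iff g r r').mp (L.comm_A (hg r hr) (hg r' hr'))

/-- An odd element of `C(x b)` normalising `A` lies in `A`. -/
theorem Lifts.mem_A {r : Γ} (ho : Odd (orderOf r)) (h : Commute r (L.x * L.b))
    (hn : r ∈ Subgroup.normalizer (L.A : Set Γ)) : r ∈ L.A := by
  haveI : Fact (Nat.Prime 3) := ⟨Nat.prime_three⟩
  have hA : IsPGroup 3 L.A := fun g => ⟨1, Subtype.ext (by rw [pow_one]; exact L.cube g.2)⟩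
  have hr : IsPGroup 3 (Subgroup.zpowers r) := fun g => by
    obtain ⟨i, hi⟩ := g.2
    refine ⟨1, Subtype.ext ?_⟩
    show (g : Γ) ^ (3 ^ 1) = 1
    rw [pow_one, ← hi]
    show (r ^ i) ^ 3 = 1
    rw [← zpow_natCast, ← zpow_mul, mul_comm, zpow_mul, zpow_natCast, L.pow_three_of_odd ho h, one_zpow]
  have hp := hA.to_sup_of_normal_left' hr (Subgroup.zpowers_le.mpr hn)
  obtain ⟨k, hk⟩ := hp.exists_card_eq
  have hd := L.odd_dvd h3 (L.A ⊔ Subgroup.zpowers r) (hk ▸ Odd.pow (by decide)) (fun s hs => by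
    refine H17.CSy.mem_centralizer_one.mp ((sup_le L.A_le ?_ : L.A ⊔ Subgroup.zpowers r ≤ _) hs)
    exact Subgroup.zpowers_le.mpr (H17.CSy.mem_centralizer_one.mpr h))
  have heq : L.A = L.A ⊔ Subgroup.zpowers r :=
    Subgroup.eq_of_le_of_card_ge le_sup_left (by rw [L.card_A]; exact Nat.le_of_dvd (by norm_num) hd)
  rw [heq]
  exact Subgroup.mem_sup_right (Subgroup.mem_zpowers r)

theorem Lifts.cent_dy {r : Γ} (ho : Odd (orderOf r)) (h : Commute r (L.x * L.b)) (hy : Commute r L.y) :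
    r ∈ L.A := by
  obtain ⟨hx, hb⟩ := L.comm_x ho h
  refine L.mem_A h3 ho h (Subgroup.centralizer_le_normalizer _ ?_)
  rw [Lifts.A, Subgroup.centralizer_closure, Subgroup.mem_centralizer_iff]
  rintro g (rfl | rfl | rfl)
  · exact hb.eq.symm
  · exact hx.eq.symm
  · exact hy.eq.symm

theorem Lifts.odd_le (h9 : M.nine) {r : Γ} (ho : Odd (orderOf r)) (h : Commute r (L.x * L.b)) :
    r ∈ L.A := by
  obtain ⟨hx, hb⟩ := L.comm_x ho h
  have hψ : Commute (M.ψ r) pd := L.ed ▸ h.map M.ψ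
  have hy : r * L.y * r⁻¹ ∈ L.A := by
    rcases conj_py hψ (M.fix9 h9 r) with e | e
    · rw [M.conj_eq (v := L.y) (by rw [L.ey, e]) L.hy L.hy]; exact L.y_mem
    · rw [M.conj_eq (v := L.y ^ 2) (by rw [map_pow, L.ey, e]) L.hy
        (by rw [← pow_mul, mul_comm, pow_mul, L.hy, one_pow])]
      exact pow_mem L.y_mem 2
  refine L.mem_A h3 ho h ?_
  have hmap : L.A.map (MulAut.conj r).toMonoidHom ≤ L.A := by
    rw [Lifts.A, MonoidHom.map_closure, Subgroup.closure_le]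
    rintro _ ⟨g, (rfl | rfl | rfl), rfl⟩
    · show r * L.b * r⁻¹ ∈ _; rw [hb.eq, mul_inv_cancel_right]; exact L.b_mem
    · show r * L.x * r⁻¹ ∈ _; rw [hx.eq, mul_inv_cancel_right]; exact L.x_mem
    · exact hy
  have heq : L.A.map (MulAut.conj r).toMonoidHom = L.A :=
    Subgroup.eq_of_le_of_card_ge hmap
      (le_of_eq (Subgroup.card_map_of_injective (MulAut.conj r).injective).symm)
  refine Subgroup.mem_normalizer_iff.mpr fun n => ⟨fun hn => hmap ⟨n, hn, rfl⟩, fun hn => ?_⟩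
  rw [← heq] at hn
  obtain ⟨m, hm, hmn⟩ := hn
  rwa [← (MulAut.conj r).injective (hmn : MulAut.conj r m = MulAut.conj r n)]

theorem Lifts.cent_ey {r : Γ} (ho : Odd (orderOf r)) (h : Commute r (L.x * L.b⁻¹)) (hy : Commute r L.y) :
    r ∈ L.A := by
  obtain ⟨w, hw⟩ := M.mem (swap 6 7 * swap 3 4) (by decide +kernel) (fun _ => by decide +kernel)
  have hbi : (L.b⁻¹) ^ 3 = 1 := by rw [inv_pow, L.hb, inv_one]
  have hyi : (L.y⁻¹) ^ 3 = 1 := by rw [inv_pow, L.hy, inv_one]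
  have wx : w * L.x * w⁻¹ = L.x :=
    M.conj_eq (by rw [hw, L.ex]; decide +kernel) L.hx L.hx
  have wb : w * L.b * w⁻¹ = L.b⁻¹ :=
    M.conj_eq (by rw [map_inv, hw, L.eb]; decide +kernel) L.hb hbi
  have wy : w * L.y * w⁻¹ = L.y⁻¹ :=
    M.conj_eq (by rw [map_inv, hw, L.ey]; decide +kernel) L.hy hyi
  have hd : w * (L.x * L.b⁻¹) * w⁻¹ = L.x * L.b := by
    rw [show w * (L.x * L.b⁻¹) * w⁻¹ = (w * L.x * w⁻¹) * (w * L.b * w⁻¹)⁻¹ by group, wx, wb, inv_inv]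
  have hA := L.cent_dy h3 (r := w * r * w⁻¹) (by rwa [H17.CSy.orderOf_conj])
    (by rw [← hd, H17.CSy.commute_conj_iff]; exact h)
    (by
      have := ((H17.CSy.commute_conj_iff w r L.y).mpr hy)
      rw [wy] at this
      simpa using this.inv_right)
  obtain ⟨i, j, k, e⟩ := L.word hA
  have hr : r = w⁻¹ * (L.b ^ (i : ℕ) * L.x ^ (j : ℕ) * L.y ^ (k : ℕ)) * w := by rw [← e]; group
  have e1 : w⁻¹ * L.b * w = L.b⁻¹ := by
    have := congrArg (fun g => (w⁻¹ * g * w)⁻¹) wb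
    simpa [mul_assoc] using this.symm
  have e2 : w⁻¹ * L.x * w = L.x := by
    conv_lhs => rw [← wx]
    group
  have e3 : w⁻¹ * L.y * w = L.y⁻¹ := by
    have := congrArg (fun g => (w⁻¹ * g * w)⁻¹) wy
    simpa [mul_assoc] using this.symm
  rw [hr, show w⁻¹ * (L.b ^ (i : ℕ) * L.x ^ (j : ℕ) * L.y ^ (k : ℕ)) * w =
    (w⁻¹ * L.b * w⁻¹⁻¹) ^ (i : ℕ) * (w⁻¹ * L.x * w⁻¹⁻¹) ^ (j : ℕ) * (w⁻¹ * L.y * w⁻¹⁻¹) ^ (k : ℕ) by
      rw [conj_pow, conj_pow, conj_pow]; group]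
  rw [inv_inv, e1, e2, e3]
  exact mul_mem (mul_mem (pow_mem (inv_mem L.b_mem) _) (pow_mem L.x_mem _)) (pow_mem (inv_mem L.y_mem) _)

theorem Lifts.cent_df {r : Γ} (ho : Odd (orderOf r)) (h : Commute r (L.x * L.b))
    (hf : Commute r (L.x * L.b⁻¹ * L.y)) : r ∈ L.A := by
  obtain ⟨hx, hb⟩ := L.comm_x ho h
  refine L.cent_dy h3 ho h ?_
  have := (hx.mul_right hb.inv_right).inv_right.mul_right hf
  rwa [inv_mul_cancel_left] at this

theorem Lifts.fix_t {t r : Γ} (ht : M.ψ t = pt) (ho : Odd (orderOf r)) (hrt : Commute r t)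
    (h : Commute r (L.x * L.b)) : r ∈ Subgroup.zpowers (L.x * L.b) := by
  obtain ⟨hx, hb⟩ := L.comm_x ho h
  have hσt : Commute (M.ψ r) pt := ht ▸ hrt.map M.ψ
  have hσd : Commute (M.ψ r) pd := L.ed ▸ h.map M.ψ
  have hσo : Odd (orderOf (M.ψ r)) := ho.of_dvd_nat (orderOf_map_dvd M.ψ r)
  have s3 := fix_three hσo hσt hσd
  have s4 : M.ψ r 4 = 4 := by
    rw [show (4 : Fin 10) = pt 3 by decide +kernel, apply_comm hσt, s3]
  have key5 : ∀ q : Fin 10, pt q = q → q = 5 ∨ q = 9 := by decide +kernel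
  have h5 : ∀ p, pt p = p → M.ψ r p = 5 ∨ M.ψ r p = 9 := fun p hp =>
    key5 _ (by rw [← apply_comm hσt, hp])
  have s5 : M.ψ r 5 = 5 := by
    rcases h5 5 (by decide +kernel) with e | e
    · exact e
    · refine fix_of_sq hσo ?_
      rw [e]
      rcases h5 9 (by decide +kernel) with e' | e'
      · exact e'
      · exact absurd ((M.ψ r).injective (e.trans e'.symm)) (by decide)
  have hy : Commute r L.y := M.comm (by
    rw [L.ey]
    refine (mul_inv_eq_iff_eq_mul (b := M.ψ r)).mp ?_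
    rw [show py = swap 3 4 * swap 4 5 from rfl, conj_three, s3, s4, s5]) L.hy
  have hA := L.cent_dy h3 ho h hy
  obtain ⟨i, j, k, rfl⟩ := L.word hA
  simp only [map_mul, map_pow, L.ex, L.ey, L.eb] at hσt s3
  obtain ⟨hij, hk⟩ := word_fix i j k (apply_comm hσt 0).symm s3
  subst hij hk
  rw [Fin.val_zero, pow_zero, mul_one, ← L.bx.mul_pow, L.bx.eq]
  exact pow_mem (Subgroup.mem_zpowers _) _

end H17.TwoAn
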