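import Cfsg.Agent.H17.TwoAn.Perms
import Cfsg.Agent.H60.AltCoverAnti

/-!
Double covers of `A₉` and `A₁₀` seen on ten points (S1645).
-/

set_option autoImplicit false

namespace H17.TwoAn

open Equiv Equiv.Perm

universe u

/-- A double cover of `A₁₀`, or of the stabiliser of `9` when `nine`. -/
structure Mdl (Γ : Type u) [Group Γ] where
  ψ : Γ →* P10
  z : Γ
  nine : Prop
  central : ∀ g, g * z = z * g
  ne_one : z ≠ 1
  sq : z * z = 1
  zmem : ψ z = 1
  ker : ∀ g, ψ g = 1 → g = 1 ∨ g = z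
  mem : ∀ σ : P10, sign σ = 1 → (nine → σ 9 = 9) → ∃ g, ψ g = σ
  sign_one : ∀ g, sign (ψ g) = 1
  fix9 : nine → ∀ g, ψ g 9 = 9
  dt : ∀ {p q r s : Fin 10}, [p, q, r, s].Nodup → ∀ g, ψ g = swap p q * swap r s → g * g = z

variable {Γ : Type u} [Group Γ] (M : Mdl Γ)

theorem Mdl.eq_or {g h : Γ} (e : M.ψ g = M.ψ h) : g = h ∨ g = h * M.z := by
  rcases M.ker (h⁻¹ * g) (by rw [map_mul, map_inv, e, inv_mul_cancel]) with k | k
  · exact Or.inl (inv_mul_eq_one.mp k).symm
  · exact Or.inr (inv_mul_eq_iff_eq_mul.mp k)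

theorem Mdl.eq_of_cube {g h : Γ} (e : M.ψ g = M.ψ h) (hg : g ^ 3 = 1) (hh : h ^ 3 = 1) : g = h := by
  rcases M.eq_or e with k | k
  · exact k
  · exfalso
    have hc : Commute h M.z := M.central h
    rw [k, hc.mul_pow, hh, one_mul, pow_three', M.sq, one_mul] at hg
    exact M.ne_one hg

/-- Elements commute with elements of order three when their images do. -/
theorem Mdl.comm {a w : Γ} (h : Commute (M.ψ a) (M.ψ w)) (hw : w ^ 3 = 1) : Commute a w := by
  have hk : M.ψ (a * w * a⁻¹) = M.ψ w := by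
    rw [map_mul, map_mul, map_inv, h.eq, mul_inv_cancel_right]
  have := M.eq_of_cube hk (by rw [conj_pow, hw, mul_one, mul_inv_cancel]) hw
  exact mul_inv_eq_iff_eq_mul.mp this

theorem Mdl.conj_eq {a w v : Γ} (h : M.ψ a * M.ψ w * (M.ψ a)⁻¹ = M.ψ v) (hw : w ^ 3 = 1)
    (hv : v ^ 3 = 1) : a * w * a⁻¹ = v :=
  M.eq_of_cube (by rw [map_mul, map_mul, map_inv, h]) (by rw [conj_pow, hw, mul_one, mul_inv_cancel]) hv

theorem Mdl.exists_cube {σ : P10} (hσ : σ ^ 3 = 1) (hs : sign σ = 1) (h9 : σ 9 = 9) :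
    ∃ g, g ^ 3 = 1 ∧ M.ψ g = σ := by
  obtain ⟨g, hg⟩ := M.mem σ hs (fun _ => h9)
  rcases M.ker (g ^ 3) (by rw [map_pow, hg, hσ]) with k | k
  · exact ⟨g, k, hg⟩
  · refine ⟨g * M.z, ?_, by rw [map_mul, hg, M.zmem, mul_one]⟩
    have hc : Commute g M.z := M.central g
    rw [hc.mul_pow, k, pow_three', M.sq, one_mul, M.sq]

/-- Lifts of double transpositions `a, c` with `a c` a double transposition anticommute. -/
theorem Mdl.anti {a c : Γ} (ha : a * a = M.z) (hc : c * c = M.z) (hac : a * c * (a * c) = M.z) :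
    a * c * a⁻¹ = c * M.z := by
  have hz : ∀ g, M.z * g = g * M.z := fun g => (M.central g).symm
  have hai : a⁻¹ = a * M.z := inv_eq_of_mul_eq_one_right (by rw [← mul_assoc, ha, M.sq])
  have hci : c⁻¹ = c * M.z := inv_eq_of_mul_eq_one_right (by rw [← mul_assoc, hc, M.sq])
  calc a * c * a⁻¹ = a * c * (a * c) * c⁻¹ * M.z := by rw [hai]; group
    _ = M.z * (c * M.z) * M.z := by rw [hac, hci]
    _ = c * M.z * (M.z * M.z) := by rw [hz (c * M.z)]; group
    _ = c * M.z := by rw [M.sq, mul_one]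

/-- A lift of order two of a nontrivial permutation moves eight points. -/
theorem Mdl.big {i : Γ} (hi : i * i = 1) (h1 : i ≠ 1) (hz : i ≠ M.z) : Big (M.ψ i) := by
  have hσ2 : M.ψ i * M.ψ i = 1 := by rw [← map_mul, hi, map_one]
  refine ⟨hσ2, ?_⟩
  have hne : M.ψ i ≠ 1 := fun e => (M.ker i e).elim h1 hz
  set σ := M.ψ i with hσ
  obtain ⟨k, hk⟩ := cycleType_prime_order (σ := σ) (by
    rw [orderOf_eq_prime (p := 2) (by rw [pow_two, hσ2]) hne]; exact Nat.prime_two)
  rw [orderOf_eq_prime (p := 2) (by rw [pow_two, hσ2]) hne] at hk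
  have hsum : 2 * (k + 1) = σ.support.card := by
    rw [← sum_cycleType, hk, Multiset.sum_replicate, smul_eq_mul, mul_comm]
  have hle : σ.support.card ≤ 10 := by
    simpa using Finset.card_le_univ σ.support
  have hsign := M.sign_one i
  rw [← hσ, sign_of_cycleType', hk, Multiset.map_replicate, Multiset.prod_replicate] at hsign
  have hk4 : k + 1 = 2 ∨ k + 1 = 4 := by
    have : k ≤ 4 := by omega
    interval_cases k <;> revert hsign <;> decide
  rcases hk4 with h2 | h4
  swap
  · omega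
  exfalso
  have h4 : σ.support.card = 4 := by omega
  have happ : ∀ p, σ (σ p) = p := fun p => congrArg (fun f : P10 => f p) hσ2
  obtain ⟨p, hp⟩ := Finset.card_pos.mp (by omega : 0 < σ.support.card)
  have hsp : σ p ∈ σ.support := apply_mem_support.mpr hp
  have hpne : σ p ≠ p := mem_support.mp hp
  obtain ⟨r, hr⟩ := Finset.card_pos.mp (show 0 < (σ.support \ {p, σ p}).card by
    have := Finset.le_card_sdiff {p, σ p} σ.support
    have := Finset.card_le_two (a := p) (b := σ p)
    omega)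
  rw [Finset.mem_sdiff] at hr
  simp only [Finset.mem_insert, Finset.mem_singleton, not_or] at hr
  obtain ⟨hr, hrp, hrsp⟩ := hr
  have hrne : σ r ≠ r := mem_support.mp hr
  have hsr : σ r ∈ σ.support := apply_mem_support.mpr hr
  have n1 : σ r ≠ p := fun e => hrsp (by rw [← e, happ])
  have n2 : σ r ≠ σ p := fun e => hrp (σ.injective e)
  have hnd : [p, σ p, r, σ r].Nodup := by
    simp only [List.nodup_cons, List.mem_cons, List.not_mem_nil, or_false, not_or,
      not_false_eq_true, List.nodup_nil, and_true]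
    exact ⟨⟨hpne.symm, Ne.symm hrp, n1.symm⟩, ⟨Ne.symm hrsp, n2.symm⟩, hrne.symm⟩
  have hsupp : ({p, σ p, r, σ r} : Finset (Fin 10)) = σ.support := by
    refine Finset.eq_of_subset_of_card_le ?_ ?_
    · intro q hq
      simp only [Finset.mem_insert, Finset.mem_singleton] at hq
      rcases hq with rfl | rfl | rfl | rfl <;> assumption
    · rw [h4, Finset.card_insert_of_notMem (by simp [hpne.symm, Ne.symm hrp, n1.symm]),
        Finset.card_insert_of_notMem (by simp [Ne.symm hrsp, n2.symm]),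
        Finset.card_insert_of_notMem (by simp [hrne.symm]), Finset.card_singleton]
  have hdt : σ = swap p (σ p) * swap r (σ r) := by
    refine Equiv.ext fun q => ?_
    by_cases hq : q ∈ σ.support
    · rw [← hsupp] at hq
      simp only [Finset.mem_insert, Finset.mem_singleton] at hq
      simp only [Perm.mul_apply, swap_apply_def]
      rcases hq with rfl | rfl | rfl | rfl <;> simp [happ] <;> grind
    · have hq' : q ≠ p ∧ q ≠ σ p ∧ q ≠ r ∧ q ≠ σ r := by
        rw [← hsupp] at hq
        simpa only [Finset.mem_insert, Finset.mem_singleton, not_or] using hq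
      rw [Perm.mul_apply, swap_apply_of_ne_of_ne hq'.2.2.1 hq'.2.2.2,
        swap_apply_of_ne_of_ne hq'.1 hq'.2.1]
      exact notMem_support.mp hq
  have := M.dt hnd i hdt
  rw [hi] at this
  exact M.ne_one this.symm

theorem sign_psw : ∀ _a : Fin 10, sign (swap (0 : Fin 10) 6) = -1 := by decide +kernel

/-- Involutions moving eight points are conjugate to `pt` by even permutations, fixing `9` if both do. -/
theorem Big.conj {σ : P10} (h : Big σ) (hs : sign σ = 1) :
    ∃ c : P10, sign c = 1 ∧ (σ 9 = 9 → c 9 = 9) ∧ c * σ * c⁻¹ = pt := by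
  obtain ⟨k, hk⟩ := cycleType_prime_order (σ := σ) (by
    rw [orderOf_eq_prime (p := 2) (by rw [pow_two, h.1]) (fun e => by
      have := h.2; rw [e, support_one] at this; simp at this)]
    exact Nat.prime_two)
  have hne : σ ≠ 1 := fun e => by have := h.2; rw [e, support_one] at this; simp at this
  rw [orderOf_eq_prime (p := 2) (by rw [pow_two, h.1]) hne] at hk
  have hk3 : k = 3 := by
    have := h.2
    rw [← sum_cycleType, hk, Multiset.sum_replicate, smul_eq_mul] at this
    omega
  have ht2 : pt * pt = 1 := by decide +kernel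
  have htne : pt ≠ 1 := by decide +kernel
  have ht8 : pt.support.card = 8 := by decide +kernel
  obtain ⟨k', hk'⟩ := cycleType_prime_order (σ := pt) (by
    rw [orderOf_eq_prime (p := 2) (by rw [pow_two, ht2]) htne]; exact Nat.prime_two)
  rw [orderOf_eq_prime (p := 2) (by rw [pow_two, ht2]) htne] at hk'
  have hk3' : k' = 3 := by
    rw [← sum_cycleType, hk', Multiset.sum_replicate, smul_eq_mul] at ht8
    omega
  have hcT : σ.cycleType = pt.cycleType := by rw [hk, hk', hk3, hk3']
  obtain ⟨c₀, hc₀⟩ := isConj_iff.mp (isConj_iff_cycleType_eq.mpr hcT)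
  -- fix `9`
  have h59 : Commute (swap (5 : Fin 10) 9) pt := by
    show swap (5 : Fin 10) 9 * pt = pt * swap 5 9
    decide +kernel
  have h06 : Commute (swap (0 : Fin 10) 6) pt := by
    show swap (0 : Fin 10) 6 * pt = pt * swap 0 6
    decide +kernel
  have hmk : ∀ (e c : P10), Commute e pt → c * σ * c⁻¹ = pt → e * c * σ * (e * c)⁻¹ = pt := by
    intro e c he hc
    rw [show e * c * σ * (e * c)⁻¹ = e * (c * σ * c⁻¹) * e⁻¹ by group, hc, he.eq, mul_inv_cancel_right]
  obtain ⟨c₁, h9, hc₁⟩ : ∃ c : P10, (σ 9 = 9 → c 9 = 9) ∧ c * σ * c⁻¹ = pt := by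
    by_cases hσ9 : σ 9 = 9
    · have hfix : pt (c₀ 9) = c₀ 9 := by
        rw [← hc₀, Perm.mul_apply, Perm.mul_apply, Perm.inv_def, Equiv.symm_apply_apply, hσ9]
      have : c₀ 9 = 5 ∨ c₀ 9 = 9 := by
        revert hfix; generalize c₀ 9 = q; revert q; decide +kernel
      rcases this with h5 | h5
      · exact ⟨swap 5 9 * c₀, fun _ => by rw [Perm.mul_apply, h5, swap_apply_left], hmk _ _ h59 hc₀⟩
      · exact ⟨c₀, fun _ => h5, hc₀⟩
    · exact ⟨c₀, fun e => absurd e hσ9, hc₀⟩
  rcases Int.units_eq_one_or (sign c₁) with hp | hp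
  · exact ⟨c₁, hp, h9, hc₁⟩
  · refine ⟨swap 0 6 * c₁, by rw [map_mul, hp, sign_psw 0]; decide, fun e => ?_, hmk _ _ h06 hc₁⟩
    rw [Perm.mul_apply, h9 e]
    exact swap_apply_of_ne_of_ne (by decide) (by decide)

theorem pd_cycleType : pd.cycleType = {3, 3} := by
  have h : Disjoint px pb := by
    intro p
    revert p
    decide +kernel
  rw [pd, h.cycleType_mul,
    show px = swap 0 1 * swap 1 2 from rfl, show pb = swap 6 7 * swap 7 8 from rfl]
  have e1 : ((swap (0 : Fin 10) 1 * swap 1 2) : P10) = swap 1 0 * swap 1 2 := by decide +kernel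
  have e2 : ((swap (6 : Fin 10) 7 * swap 7 8) : P10) = swap 7 6 * swap 7 8 := by decide +kernel
  rw [e1, e2, (isThreeCycle_swap_mul_swap_same (by decide) (by decide) (by decide)).cycleType,
    (isThreeCycle_swap_mul_swap_same (by decide) (by decide) (by decide)).cycleType]
  rfl

theorem card_cent_pt : ¬ 9 ∣ Nat.card (Subgroup.centralizer ({pt} : Set P10)) := by
  have ht2 : pt * pt = 1 := by decide +kernel
  have htne : pt ≠ 1 := by decide +kernel
  obtain ⟨k, hk⟩ := cycleType_prime_order (σ := pt) (by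
    rw [orderOf_eq_prime (p := 2) (by rw [pow_two, ht2]) htne]; exact Nat.prime_two)
  rw [orderOf_eq_prime (p := 2) (by rw [pow_two, ht2]) htne] at hk
  have ht8 : pt.support.card = 8 := by decide +kernel
  have hk3 : k = 3 := by
    rw [← sum_cycleType, hk, Multiset.sum_replicate, smul_eq_mul] at ht8
    omega
  rw [nat_card_centralizer, hk, hk3]
  decide

end H17.TwoAn
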