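import Mathlib

/-!
Concrete permutations of ten points for the double covers of `A₉` and `A₁₀` (S1645).
-/

set_option autoImplicit false

namespace H17.TwoAn

open Equiv Equiv.Perm

abbrev P10 : Type := Equiv.Perm (Fin 10)

def px : P10 := swap 0 1 * swap 1 2
def py : P10 := swap 3 4 * swap 4 5
def pb : P10 := swap 6 7 * swap 7 8
def pu : P10 := swap 0 6 * swap 1 7
def pu' : P10 := swap 2 8 * swap 3 4
def pt : P10 := pu * pu'
def pv : P10 := swap 0 1 * swap 6 7
def ph : P10 := pt * pv
def ps : P10 := (swap 0 3 * swap 3 6) * (swap 1 4 * swap 4 7) * (swap 2 5 * swap 5 8)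
def pq : P10 := swap 3 4 * swap 5 9
def pg1 : P10 := swap 1 3 * swap 3 2
def pg2 : P10 := swap 1 3 * swap 2 4
def pd : P10 := px * pb
def tau (a : Fin 3) : P10 := px ^ (a : ℕ) * (swap 0 6 * swap 1 7 * swap 2 8) * (px ^ (a : ℕ))⁻¹

theorem word_inj : ∀ i j k i' j' k' : Fin 3,
    pb ^ (i : ℕ) * px ^ (j : ℕ) * py ^ (k : ℕ) = pb ^ (i' : ℕ) * px ^ (j' : ℕ) * py ^ (k' : ℕ) →
      i = i' ∧ j = j' ∧ k = k' := by
  have h : ∀ i j k : Fin 3, ((pb ^ (i : ℕ) * px ^ (j : ℕ) * py ^ (k : ℕ)) 6,
      (pb ^ (i : ℕ) * px ^ (j : ℕ) * py ^ (k : ℕ)) 0, (pb ^ (i : ℕ) * px ^ (j : ℕ) * py ^ (k : ℕ)) 3)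
      = ((⟨6 + i.val, by omega⟩ : Fin 10), (⟨j.val, by omega⟩ : Fin 10), (⟨3 + k.val, by omega⟩ : Fin 10)) := by
    decide +kernel
  intro i j k i' j' k' e
  have h1 := h i j k
  rw [e, h i' j' k'] at h1
  simp only [Prod.mk.injEq, Fin.mk.injEq] at h1
  omega

/-- A word centralising `pt` and fixing `3`. -/
theorem word_fix : ∀ i j k : Fin 3,
    pt ((pb ^ (i : ℕ) * px ^ (j : ℕ) * py ^ (k : ℕ)) 0) =
        (pb ^ (i : ℕ) * px ^ (j : ℕ) * py ^ (k : ℕ)) (pt 0) →
      (pb ^ (i : ℕ) * px ^ (j : ℕ) * py ^ (k : ℕ)) 3 = 3 → i = j ∧ k = 0 := by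
  decide +kernel

theorem apply_comm {σ c : P10} (h : Commute σ c) (p : Fin 10) : σ (c p) = c (σ p) :=
  congrArg (fun f : P10 => f p) h.eq

theorem conj_three (σ : P10) (a b c : Fin 10) :
    σ * (swap a b * swap b c) * σ⁻¹ = swap (σ a) (σ b) * swap (σ b) (σ c) := by
  rw [swap_apply_apply, swap_apply_apply]; group

theorem iterate_congr {α : Type*} {f g : α → α} {P : α → Prop} (h : ∀ p, P p → f p = g p ∧ P (g p))
    (k : ℕ) : ∀ p, P p → f^[k] p = g^[k] p := by
  induction k with
  | zero => intro p _; rfl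
  | succ k ih =>
    intro p hp
    rw [Function.iterate_succ_apply, Function.iterate_succ_apply, (h p hp).1]
    exact ih _ (h p hp).2

/-- A table on the six moved points of `pd`. -/
def six (a c : Fin 10) (p : Fin 10) : Fin 10 :=
  if p = 0 then a else if p = 1 then pd a else if p = 2 then pd (pd a) else
  if p = 6 then c else if p = 7 then pd c else if p = 8 then pd (pd c) else p

def fr : Fin 4 → Fin 10 := ![3, 4, 5, 9]

/-- A table on the four fixed points of `pd`. -/
def four (i j k l : Fin 4) (p : Fin 10) : Fin 10 :=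
  if p = 3 then fr i else if p = 4 then fr j else if p = 5 then fr k else
  if p = 9 then fr l else p

theorem six_ok : ∀ a c : Fin 10, pd a ≠ a → pd c ≠ c → c ∉ [a, pd a, pd (pd a)] →
    ∀ p, pd p ≠ p → pd (six a c p) ≠ six a c p ∧ (six a c)^[12] p = p := by
  decide +kernel

theorem four_ok : ∀ i j k l : Fin 4, [i, j, k, l].Nodup →
    ∀ p, pd p = p → pd (four i j k l p) = four i j k l p ∧ (four i j k l)^[12] p = p := by
  decide +kernel

theorem fr_of_fix : ∀ p : Fin 10, pd p = p → ∃ i, fr i = p := by decide +kernel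

theorem comm_pd_pow {σ : P10} (h : Commute σ pd) : σ ^ 12 = 1 := by
  have hc := apply_comm h
  have hfix : ∀ p, pd (σ p) = σ p ↔ pd p = p := fun p => by rw [← hc, σ.injective.eq_iff]
  refine Equiv.ext fun p => ?_
  rw [Perm.coe_pow, Perm.one_apply]
  by_cases hp : pd p = p
  · obtain ⟨i, hi⟩ := fr_of_fix (σ 3) ((hfix 3).mpr (by decide +kernel))
    obtain ⟨j, hj⟩ := fr_of_fix (σ 4) ((hfix 4).mpr (by decide +kernel))
    obtain ⟨k, hk⟩ := fr_of_fix (σ 5) ((hfix 5).mpr (by decide +kernel))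
    obtain ⟨l, hl⟩ := fr_of_fix (σ 9) ((hfix 9).mpr (by decide +kernel))
    have hnd : [i, j, k, l].Nodup := by
      apply List.Nodup.of_map fr
      simp only [List.map_cons, List.map_nil, hi, hj, hk, hl]
      exact List.Nodup.map (f := σ) σ.injective (by decide : [(3 : Fin 10), 4, 5, 9].Nodup)
    have hok := four_ok i j k l hnd
    rw [iterate_congr (P := fun p => pd p = p) (g := four i j k l) (fun p hp => ?_) 12 p hp,
      (hok p hp).2]
    refine ⟨?_, (hok p hp).1⟩
    have : p = 3 ∨ p = 4 ∨ p = 5 ∨ p = 9 := by revert p; decide +kernel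
    rcases this with rfl | rfl | rfl | rfl
    · exact hi.symm
    · exact hj.symm
    · exact hk.symm
    · exact hl.symm
  · have hsix : ∀ p, pd p ≠ p → σ p = six (σ 0) (σ 6) p := by
      intro p hp
      have : p = 0 ∨ p = 1 ∨ p = 2 ∨ p = 6 ∨ p = 7 ∨ p = 8 := by revert p; decide +kernel
      have e1 : pd 0 = 1 := by decide +kernel
      have e2 : pd 1 = 2 := by decide +kernel
      have e7 : pd 6 = 7 := by decide +kernel
      have e8 : pd 7 = 8 := by decide +kernel
      rcases this with rfl | rfl | rfl | rfl | rfl | rfl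
      · rfl
      · show σ 1 = pd (σ 0); rw [← hc, e1]
      · show σ 2 = pd (pd (σ 0)); rw [← hc, e1, ← hc, e2]
      · rfl
      · show σ 7 = pd (σ 6); rw [← hc, e7]
      · show σ 8 = pd (pd (σ 6)); rw [← hc, e7, ← hc, e8]
    have hok := six_ok (σ 0) (σ 6) (fun e => absurd ((hfix 0).mp e) (by decide +kernel))
      (fun e => absurd ((hfix 6).mp e) (by decide +kernel)) (by
        simp only [List.mem_cons, List.not_mem_nil, or_false, not_or, ← hc, σ.injective.eq_iff]
        decide +kernel)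
    rw [iterate_congr (P := fun p => pd p ≠ p) (g := six (σ 0) (σ 6))
      (fun p hp => ⟨hsix p hp, (hok p hp).1⟩) 12 p hp, (hok p hp).2]

theorem cube_one_of_odd {σ : P10} (h : Commute σ pd) (ho : Odd (orderOf σ)) : σ ^ 3 = 1 := by
  have h12 := orderOf_dvd_of_pow_eq_one (comm_pd_pow h)
  rw [show (12 : ℕ) = 2 ^ 2 * 3 by norm_num] at h12
  exact orderOf_dvd_iff_pow_eq_one.mp
    (((Nat.coprime_two_right.mpr ho).pow_right 2).dvd_of_dvd_mul_left h12)

theorem conj_px {σ : P10} (h : Commute σ pd) : σ * px * σ⁻¹ = px ∨ σ * px * σ⁻¹ = pb := by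
  have hc := apply_comm h
  have key : ∀ a : Fin 10, pd a ≠ a → swap a (pd a) * swap (pd a) (pd (pd a)) = px ∨
      swap a (pd a) * swap (pd a) (pd (pd a)) = pb := by decide +kernel
  have := key (σ 0) (fun e => by
    rw [← hc, σ.injective.eq_iff] at e; exact absurd e (by decide +kernel))
  rw [show px = swap 0 1 * swap 1 2 from rfl, conj_three,
    show σ 1 = pd (σ 0) by rw [← hc]; rfl,
    show σ 2 = pd (pd (σ 0)) by rw [← hc, ← hc]; rfl]
  exact this

theorem conj_pb {σ : P10} (h : Commute σ pd) : σ * pb * σ⁻¹ = px ∨ σ * pb * σ⁻¹ = pb := by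
  have hc := apply_comm h
  have key : ∀ a : Fin 10, pd a ≠ a → swap a (pd a) * swap (pd a) (pd (pd a)) = px ∨
      swap a (pd a) * swap (pd a) (pd (pd a)) = pb := by decide +kernel
  have := key (σ 6) (fun e => by
    rw [← hc, σ.injective.eq_iff] at e; exact absurd e (by decide +kernel))
  rw [show pb = swap 6 7 * swap 7 8 from rfl, conj_three,
    show σ 7 = pd (σ 6) by rw [← hc]; rfl,
    show σ 8 = pd (pd (σ 6)) by rw [← hc, ← hc]; rfl]
  exact this

theorem conj_py {σ : P10} (h : Commute σ pd) (h9 : σ 9 = 9) :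
    σ * py * σ⁻¹ = py ∨ σ * py * σ⁻¹ = py ^ 2 := by
  have hc := apply_comm h
  have hfix : ∀ p, pd p = p → pd (σ p) = σ p := fun p hp => by rw [← hc, hp]
  have key : ∀ i j k : Fin 4, [i, j, k].Nodup → fr i ≠ 9 → fr j ≠ 9 → fr k ≠ 9 →
      swap (fr i) (fr j) * swap (fr j) (fr k) = py ∨
        swap (fr i) (fr j) * swap (fr j) (fr k) = py ^ 2 := by decide +kernel
  obtain ⟨i, hi⟩ := fr_of_fix (σ 3) (hfix 3 (by decide +kernel))
  obtain ⟨j, hj⟩ := fr_of_fix (σ 4) (hfix 4 (by decide +kernel))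
  obtain ⟨k, hk⟩ := fr_of_fix (σ 5) (hfix 5 (by decide +kernel))
  have hne : ∀ p : Fin 10, p ≠ 9 → σ p ≠ 9 := fun p hp e => hp (σ.injective (e.trans h9.symm))
  rw [show py = swap 3 4 * swap 4 5 from rfl, conj_three, ← hi, ← hj, ← hk]
  refine key i j k ?_ (hi ▸ hne 3 (by decide)) (hj ▸ hne 4 (by decide)) (hk ▸ hne 5 (by decide))
  apply List.Nodup.of_map fr
  simp only [List.map_cons, List.map_nil, hi, hj, hk]
  exact List.Nodup.map (f := σ) σ.injective (by decide : [(3 : Fin 10), 4, 5].Nodup)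

theorem fix_of_sq {σ : P10} (ho : Odd (orderOf σ)) {p : Fin 10} (h : σ (σ p) = p) : σ p = p := by
  have h1 : ∀ i, (σ ^ (2 * i)) p = p := fun i => by
    induction i with
    | zero => rfl
    | succ i ih => rw [show 2 * (i + 1) = 2 * i + 2 by ring, pow_add, Perm.mul_apply, pow_two,
        Perm.mul_apply, h, ih]
  obtain ⟨m, hm⟩ := ho
  calc σ p = σ ((σ ^ (2 * m)) p) := by rw [h1]
    _ = (σ ^ (2 * m + 1)) p := by rw [pow_succ', Perm.mul_apply]
    _ = p := by rw [← hm, pow_orderOf_eq_one, Perm.one_apply]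

theorem fix_three {σ : P10} (ho : Odd (orderOf σ)) (ht : Commute σ pt) (hd : Commute σ pd) :
    σ 3 = 3 := by
  have key : ∀ p : Fin 10, pd p = p → pt p ≠ p → p = 3 ∨ p = 4 := by decide +kernel
  have hm : ∀ p : Fin 10, pd p = p → pt p ≠ p → σ p = 3 ∨ σ p = 4 := fun p h1 h2 =>
    key _ (by rw [← apply_comm hd, h1]) (fun e => h2 (σ.injective (by rw [apply_comm ht, e])))
  rcases hm 3 (by decide +kernel) (by decide +kernel) with h | h
  · exact h
  · refine fix_of_sq ho ?_
    rw [h]
    rcases hm 4 (by decide +kernel) (by decide +kernel) with h' | h'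
    · exact h'
    · exact absurd (σ.injective (h.trans h'.symm)) (by decide)

/-- An involution of ten points moving eight. -/
def Big (σ : P10) : Prop := σ * σ = 1 ∧ σ.support.card = 8

theorem Big.apply {σ : P10} (h : Big σ) (p : Fin 10) : σ (σ p) = p :=
  congrArg (fun f : P10 => f p) h.1

theorem Big.not_three {σ : P10} (h : Big σ) {a b c : Fin 10} (ha : σ a = a) (hb : σ b = b)
    (hc : σ c = c) (hnd : [a, b, c].Nodup) : False := by
  have hsub : ({a, b, c} : Finset (Fin 10)) ⊆ σ.supportᶜ := by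
    intro p hp
    simp only [Finset.mem_insert, Finset.mem_singleton] at hp
    rw [Finset.mem_compl, mem_support, not_not]
    rcases hp with rfl | rfl | rfl <;> assumption
  have h1 := Finset.card_le_card hsub
  simp only [List.nodup_cons, List.mem_cons, List.not_mem_nil, or_false, not_or] at hnd
  rw [Finset.card_compl, h.2, Fintype.card_fin, Finset.card_insert_of_notMem (by simp [hnd.1]),
    Finset.card_insert_of_notMem (by simp [hnd.2.1]), Finset.card_singleton] at h1
  omega

theorem Big.iso_b {σ : P10} (h : Big σ) (hc : Commute σ pb) : False := by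
  have e : ∀ p, σ (pb p) = pb (σ p) := apply_comm hc
  have key : ∀ a : Fin 10, pb a ≠ a → a = 6 ∨ a = 7 ∨ a = 8 := by decide +kernel
  have h6 : σ 6 = 6 := by
    have hh := h.apply 6
    rcases key (σ 6) (fun h' => by
      rw [← e, σ.injective.eq_iff] at h'; exact absurd h' (by decide +kernel)) with h6 | h6 | h6
    · exact h6
    · have := e 6
      rw [show pb 6 = 7 from by decide +kernel, h6, show pb 7 = 8 from by decide +kernel] at this
      rw [h6, this] at hh
      exact absurd hh (by decide)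
    · have := e (pb 6)
      rw [e 6, h6, show pb (pb 6) = 8 from by decide +kernel] at this
      rw [h6, this] at hh
      exact absurd hh (by decide +kernel)
  have h7 : σ (pb 6) = pb 6 := by rw [e, h6]
  exact h.not_three h6 h7 (show σ (pb (pb 6)) = pb (pb 6) by rw [e, h7]) (by decide +kernel)

theorem Big.iso_f {σ : P10} (h : Big σ) (hc : Commute σ (px * pb⁻¹ * py)) : False := by
  have e : ∀ p, σ ((px * pb⁻¹ * py) p) = (px * pb⁻¹ * py) (σ p) := apply_comm hc
  have hex : ∃ p : Fin 10, p ≠ 9 ∧ σ p = p := by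
    have h2 : (σ.supportᶜ).card = 2 := by rw [Finset.card_compl, h.2, Fintype.card_fin]
    obtain ⟨p, hp, hne⟩ := Finset.exists_mem_ne (by omega : 1 < (σ.supportᶜ).card) 9
    rw [Finset.mem_compl, mem_support, not_not] at hp
    exact ⟨p, hne, hp⟩
  obtain ⟨p, hp9, hp⟩ := hex
  have h1 : σ ((px * pb⁻¹ * py) p) = (px * pb⁻¹ * py) p := by rw [e, hp]
  refine h.not_three hp h1
    (show σ ((px * pb⁻¹ * py) ((px * pb⁻¹ * py) p)) = _ by rw [e, h1]) ?_
  have key : ∀ p : Fin 10, p ≠ 9 →
      [p, (px * pb⁻¹ * py) p, (px * pb⁻¹ * py) ((px * pb⁻¹ * py) p)].Nodup := by decide +kernel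
  exact key p hp9

/-- An involution moving eight points and commuting with `pd` is a swap of the two blocks times a transposition. -/
theorem Big.shape {σ : P10} (h : Big σ) (hc : Commute σ pd) :
    ∃ (a : Fin 3) (i j : Fin 4), i ≠ j ∧
      σ = tau a * swap (fr i) (fr j) := by
  have e := apply_comm hc
  have hh := h.apply
  have key : ∀ a : Fin 10, pd a ≠ a →
      a = 0 ∨ a = 1 ∨ a = 2 ∨ a = 6 ∨ a = 7 ∨ a = 8 := by decide +kernel
  have h0 : σ 0 = 6 ∨ σ 0 = 7 ∨ σ 0 = 8 := by
    have hh0 := hh 0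
    rcases key (σ 0) (fun e' => by
      rw [← e, σ.injective.eq_iff] at e'; exact absurd e' (by decide +kernel)) with h' | h' | h' | h' | h' | h'
    · exfalso
      have h1 : σ 1 = 1 := by
        rw [show (1 : Fin 10) = pd 0 from by decide +kernel, e, h']
      have h2 : σ 2 = 2 := by
        rw [show (2 : Fin 10) = pd 1 from by decide +kernel, e, h1]
      exact h.not_three h' h1 h2 (by decide)
    · exfalso
      have h1 : σ 1 = 2 := by
        rw [show (1 : Fin 10) = pd 0 from by decide +kernel, e, h']; decide +kernel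
      rw [h', h1] at hh0
      exact absurd hh0 (by decide)
    · exfalso
      have h1 : σ 1 = 0 := by
        rw [show (1 : Fin 10) = pd 0 from by decide +kernel, e, h']; decide +kernel
      have h2 : σ 2 = 1 := by
        rw [show (2 : Fin 10) = pd 1 from by decide +kernel, e, h1]; decide +kernel
      rw [h', h2] at hh0
      exact absurd hh0 (by decide)
    · exact Or.inl h'
    · exact Or.inr (Or.inl h')
    · exact Or.inr (Or.inr h')
  -- the fixed points of `pd`
  have hfix : ∀ p, pd p = p → pd (σ p) = σ p := fun p hp => by rw [← e, hp]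
  have hmove : ∃ i : Fin 4, σ (fr i) ≠ fr i := by
    by_contra hcon
    push Not at hcon
    exact h.not_three (hcon 0) (hcon 1) (hcon 2) (by decide +kernel)
  obtain ⟨i, hi⟩ := hmove
  have hfr : ∀ i, pd (fr i) = fr i := by decide +kernel
  obtain ⟨j, hj⟩ := fr_of_fix (σ (fr i)) (hfix _ (hfr i))
  have hij : i ≠ j := fun e' => hi (by rw [← hj, e'])
  have hji : σ (fr j) = fr i := by rw [hj, hh]
  obtain ⟨a, ha⟩ : ∃ a : Fin 3, σ 0 = (tau a) 0 := by
    rcases h0 with h' | h' | h'
    · exact ⟨0, by rw [h']; decide +kernel⟩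
    · exact ⟨2, by rw [h']; decide +kernel⟩
    · exact ⟨1, by rw [h']; decide +kernel⟩
  refine ⟨a, i, j, hij, ?_⟩
  set τ := tau a with hτ
  have hτall : ∀ a : Fin 3, ∀ p : Fin 10,
      (tau a) (pd p) =
        pd ((tau a) p) ∧
      (pd p = p → (tau a) p = p) ∧
      (tau a)
        ((tau a) p) = p := by
    decide +kernel
  have hτ' := hτall a
  rw [← hτ] at hτ'
  have hsw : ∀ p, pd p ≠ p → swap (fr i) (fr j) p = p := fun p hp =>
    swap_apply_of_ne_of_ne (fun e' => hp (e' ▸ hfr i)) (fun e' => hp (e' ▸ hfr j))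
  have s1 : σ 1 = τ 1 := by
    rw [show (1 : Fin 10) = pd 0 from by decide +kernel, e, (hτ' 0).1, ha]
  have s2 : σ 2 = τ 2 := by
    rw [show (2 : Fin 10) = pd 1 from by decide +kernel, e, (hτ' 1).1, s1]
  have hback : ∀ p, σ p = τ p → σ (τ p) = τ (τ p) := fun p hp => by
    rw [← hp, hh, hp, (hτ' p).2.2]
  have hτsix : ∀ a : Fin 3, ∀ q : Fin 10, pd q ≠ q →
      q = 0 ∨ q = 1 ∨ q = 2 ∨ q = (tau a) 0 ∨
        q = (tau a) 1 ∨
        q = (tau a) 2 := by decide +kernel
  refine Equiv.ext fun p => ?_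
  rw [Perm.mul_apply]
  by_cases hp : pd p = p
  · by_cases hpi : p = fr i
    · rw [hpi, swap_apply_left, (hτ' _).2.1 (hfr j), hj]
    by_cases hpj : p = fr j
    · rw [hpj, swap_apply_right, (hτ' _).2.1 (hfr i), hji]
    rw [swap_apply_of_ne_of_ne hpi hpj, (hτ' p).2.1 hp]
    by_contra hne
    -- two further moved fixed points of `pd` leave too few
    have hk' : pd (σ p) = σ p := hfix p hp
    have n1 : σ p ≠ fr i := fun e' => hpj (σ.injective (e'.trans hji.symm))
    have n2 : σ p ≠ fr j := fun e' => hpi (σ.injective (e'.trans hj))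
    have hall : ∀ q : Fin 10, σ q ≠ q := by
      intro q
      by_cases hq : pd q = q
      · have key4 : ∀ a b c d q : Fin 10, pd a = a → pd b = b → pd c = c → pd d = d → pd q = q →
            [a, b, c, d].Nodup → q = a ∨ q = b ∨ q = c ∨ q = d := by
          intro a b c d q ha hb hc hd hq hnd
          obtain ⟨a', rfl⟩ := fr_of_fix a ha
          obtain ⟨b', rfl⟩ := fr_of_fix b hb
          obtain ⟨c', rfl⟩ := fr_of_fix c hc
          obtain ⟨d', rfl⟩ := fr_of_fix d hd
          obtain ⟨q', rfl⟩ := fr_of_fix q hq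
          have : ∀ a b c d q : Fin 4, [a, b, c, d].Nodup → q = a ∨ q = b ∨ q = c ∨ q = d := by
            decide +kernel
          have h4 := this a' b' c' d' q' (List.Nodup.of_map fr (by simpa using hnd))
          rcases h4 with rfl | rfl | rfl | rfl <;> simp
        have hnd : [fr i, fr j, p, σ p].Nodup := by
          simp only [List.nodup_cons, List.mem_cons, List.not_mem_nil, or_false, not_or,
            not_false_eq_true, List.nodup_nil, and_true]
          exact ⟨⟨fun e' => hi (by rw [← hj, e']), fun e' => hpi e'.symm, fun e' => n1 e'.symm⟩,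
            ⟨fun e' => hpj e'.symm, fun e' => n2 e'.symm⟩, fun e' => hne e'.symm⟩
        rcases key4 _ _ _ _ q (hfr i) (hfr j) hp hk' hq hnd with rfl | rfl | rfl | rfl
        · exact hi
        · rw [hji]; exact fun e' => hi (by rw [← hj, e'])
        · exact hne
        · rw [hh]; exact fun e' => hne e'.symm
      · intro e'
        have e1 : σ (pd q) = pd q := by rw [e, e']
        exact h.not_three e' e1 (show σ (pd (pd q)) = pd (pd q) by rw [e, e1]) ((show ∀ q : Fin 10, pd q ≠ q → [q, pd q, pd (pd q)].Nodup by decide +kernel) q hq)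
    have huniv : σ.support = Finset.univ :=
      Finset.eq_univ_of_forall fun q => mem_support.mpr (hall q)
    have := h.2
    rw [huniv] at this
    simp at this
  · rw [hsw p hp]
    rcases hτsix a p hp with rfl | rfl | rfl | rfl | rfl | rfl
    · exact ha
    · exact s1
    · exact s2
    · exact hback 0 ha
    · exact hback 1 s1
    · exact hback 2 s2

/-- Conjugators inside the centraliser of `pd`. -/
theorem conj_shape (a : Fin 3) (i j : Fin 4) (h : i ≠ j) :
    ∃ (k l : Fin 3) (e : Fin 2), ((i.val = 3 ∨ j.val = 3) ↔ e.val = 1) ∧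
      (py ^ (k : ℕ) * pq ^ (e : ℕ) * py ^ (l : ℕ) * (px ^ (a : ℕ))⁻¹) *
        (tau a * swap (fr i) (fr j)) *
        (py ^ (k : ℕ) * pq ^ (e : ℕ) * py ^ (l : ℕ) * (px ^ (a : ℕ))⁻¹)⁻¹ = pt := by
  revert h
  revert a i j
  decide +kernel

end H17.TwoAn
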